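import Cfsg.Agent.Lib.AbFixed69.Pairs

/-!
# A maximal invariant `{p, r}`-subgroup with two non-trivial cores
-/

set_option autoImplicit false

namespace Cfsg.Agent.Lib.AbFixed69

open Subgroup Cfsg.Agent.Lib.Coprime
open scoped commutatorElement

universe u

variable {Γ : Type u} [Group Γ] [Finite Γ]

namespace Cfg

variable {q : ℕ} {A G : Subgroup Γ} (hc : Cfg q A G) {p r : ℕ} [Fact p.Prime] [Fact r.Prime]
include hc

theorem disjoint_of_ne (hpr : p ≠ r) {X Y : Subgroup Γ} (hX : IsPGroup p X) (hY : IsPGroup r Y) :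
    X ⊓ Y = ⊥ :=
  inf_eq_bot_of_coprime (IsPGroup.coprime_card_of_ne (p₁ := p) (p₂ := r) hpr X Y hX hY)

theorem pCoreOf_le_syl {M : Subgroup Γ} (hM : Inv A G M) :
    Cfsg.pCoreOf p M ≤ syl A G p :=
  le_syl (hc.inv_pCoreOf hM p) (isPGroup_pCoreOf p M)

theorem cores_commute (hpr : p ≠ r) (M : Subgroup Γ) :
    Cfsg.pCoreOf p M ≤ centralizer (Cfsg.pCoreOf r M : Set Γ) := by
  intro x hx
  refine mem_centralizer_iff.mpr fun y hy => ?_
  refine Bender.commute_of_mem_inter (hc.disjoint_of_ne hpr.symm (isPGroup_pCoreOf r M)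
    (isPGroup_pCoreOf p M)) hy hx ?_ ?_
  · exact (le_normalizer.trans (le_normalizer_pCoreOf r M)) (map_subtype_le _ hx)
  · exact (le_normalizer.trans (le_normalizer_pCoreOf p M)) (map_subtype_le _ hy)

theorem centralizer_inf_le_max {M D X : Subgroup Γ} (hM : MaxPR A G p r M) (hX : PR A G p r X)
    (hD : Inv A G D) (hD0 : D ≠ ⊥) (hD1 : D ≠ G) (hMD : M ≤ normalizer (D : Set Γ)) :
    X ⊓ centralizer (D : Set Γ) ≤ M := by
  obtain ⟨h1, h2⟩ := hc.normalizer_inf_le_max hM hD hD0 hD1 hMD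
  refine hc.le_of_pr (p := p) (r := r) (X := X ⊓ centralizer (D : Set Γ))
    ⟨hc.inv_inf hX.1 (le_normalizer_centralizer_of_le hD.2),
      Hall.isPiNumber_card_of_le inf_le_left hX.2⟩ ?_ ?_
  · exact (le_inf inf_le_right ((inf_le_left.trans inf_le_right).trans
      (centralizer_le_normalizer (D : Set Γ)))).trans h1
  · exact (le_inf inf_le_right ((inf_le_left.trans inf_le_right).trans
      (centralizer_le_normalizer (D : Set Γ)))).trans h2

/-- Bender's argument: the second core of a maximal subgroup absorbs. -/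
theorem core_eq_of_le (hl : ¬ Linked A G p r) (hpr : p ≠ r) {M X : Subgroup Γ}
    (hM : MaxPR A G p r M) (hW : Cfsg.pCoreOf p M ≠ ⊥) (hU : Cfsg.pCoreOf r M ≠ ⊥)
    (hX : MaxPR A G p r X) (hUX : Cfsg.pCoreOf r M ≤ X) (hDX : zOf (Cfsg.pCoreOf p M) ≤ X) :
    Cfsg.pCoreOf r X = Cfsg.pCoreOf r M := by
  set W := Cfsg.pCoreOf p M
  set U := Cfsg.pCoreOf r M with hUdef
  set D := zOf W
  have hWi := hc.inv_pCoreOf hM.1.1 p
  have hUi := hc.inv_pCoreOf hM.1.1 r
  have hWp : IsPGroup p W := isPGroup_pCoreOf p M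
  have hDp : IsPGroup p D := hWp.to_le inf_le_left
  have hUr : IsPGroup r U := isPGroup_pCoreOf r M
  have hDi : Inv A G D := hc.inv_zOf hWi
  have hD0 : D ≠ ⊥ := zOf_ne_bot hWp hW
  have hMD : M ≤ normalizer (D : Set Γ) :=
    (le_normalizer.trans (le_normalizer_pCoreOf p M)).trans (normalizer_le_normalizer_zOf W)
  have hMU : M ≤ normalizer (U : Set Γ) := le_normalizer.trans (le_normalizer_pCoreOf r M)
  have hDU : D ≤ centralizer (U : Set Γ) := inf_le_left.trans (hc.cores_commute hpr M)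
  have hUD : U ≤ centralizer (D : Set Γ) := centralizer_comm hDU
  have h1 : U ≤ Cfsg.pCoreOf r X := hc.le_core_of_centralizes hl hpr hX.1 hDX hDp hUX hUr hUD
    ((hc.centralizer_inf_le_max hM hX.1 hDi hD0 (hc.ne_of_isPGroup hDp) hMD).trans hMU)
  have h2 : D ≤ Cfsg.pCoreOf p X := hc.le_core_of_centralizes (fun h => hl h.symm) hpr.symm
    hX.1.symm hUX hUr hDX hDp hDU
    ((hc.centralizer_inf_le_max hM hX.1 hUi hU (hc.ne_of_isPGroup hUr) hMU).trans hMD)
  -- the cores of `X` lie in `M`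
  obtain ⟨-, h3⟩ := hc.normalizer_inf_le_max hM hDi hD0 (hc.ne_of_isPGroup hDp) hMD
  obtain ⟨h4, -⟩ := hc.normalizer_inf_le_max hM hUi hU (hc.ne_of_isPGroup hUr) hMU
  have h5 : Cfsg.pCoreOf r X ≤ M := (le_inf (hc.pCoreOf_le_syl hX.1.1)
    (((hc.cores_commute hpr.symm X).trans (centralizer_le h2)).trans
      (centralizer_le_normalizer (D : Set Γ)))).trans h3
  have h6 : Cfsg.pCoreOf p X ≤ M := (le_inf (hc.pCoreOf_le_syl hX.1.1)
    (((hc.cores_commute hpr X).trans (centralizer_le h1)).trans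
      (centralizer_le_normalizer (U : Set Γ)))).trans h4
  refine le_antisymm ?_ h1
  exact hc.le_core_of_centralizes hl hpr hM.1 h6 (isPGroup_pCoreOf p X) h5 (isPGroup_pCoreOf r X)
    (hc.cores_commute hpr.symm X)
    ((hc.centralizer_inf_le_max hX hM.1 (hc.inv_pCoreOf hX.1.1 p)
      (ne_bot_of_le_ne_bot hD0 h2) (hc.ne_of_isPGroup (isPGroup_pCoreOf p X))
      (le_normalizer.trans (le_normalizer_pCoreOf p X))).trans
      (le_normalizer.trans (le_normalizer_pCoreOf r X)))

theorem syl_le_of_cores (hl : ¬ Linked A G p r) (hpr : p ≠ r) {M : Subgroup Γ}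
    (hM : MaxPR A G p r M) (hW : Cfsg.pCoreOf p M ≠ ⊥) (hU : Cfsg.pCoreOf r M ≠ ⊥) :
    syl A G r ≤ M := by
  set W := Cfsg.pCoreOf p M
  set U := Cfsg.pCoreOf r M
  set D := zOf W
  set R := syl A G r
  have hWi : Inv A G W := hc.inv_pCoreOf hM.1.1 p
  have hUi : Inv A G U := hc.inv_pCoreOf hM.1.1 r
  have hWp : IsPGroup p W := isPGroup_pCoreOf p M
  have hDi : Inv A G D := hc.inv_zOf hWi
  have hDp : IsPGroup p D := hWp.to_le inf_le_left
  have hUW : U ≤ centralizer (W : Set Γ) := hc.cores_commute hpr.symm M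
  have hUM : U ≤ M := map_subtype_le _
  have hUR : U ≤ R := hc.pCoreOf_le_syl hM.1.1
  have hMU : M ≤ normalizer (U : Set Γ) := le_normalizer.trans (le_normalizer_pCoreOf r M)
  have hMD : M ≤ normalizer (D : Set Γ) :=
    (le_normalizer.trans (le_normalizer_pCoreOf p M)).trans (normalizer_le_normalizer_zOf W)
  -- anything normalised by `U` and `D` has its `r`-normaliser inside `M`
  have key : ∀ E : Subgroup Γ, Inv A G E → E ≠ ⊥ → E ≠ G → U ≤ normalizer (E : Set Γ) →
      D ≤ normalizer (E : Set Γ) → R ⊓ normalizer (E : Set Γ) ≤ M := by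
    intro E hE h0 h1 hUE hDE
    obtain ⟨X, hX, hp', hr'⟩ := hc.exists_max_over (p := p) (r := r) (hc.inv_normalizer hE)
      (hc.normalizer_ne hE h0 h1)
    have hUX : U ≤ X := (le_inf (le_inf hUi.1 hUE) hUR).trans hr'
    have hDX : D ≤ X := (le_inf (le_inf hDi.1 hDE) (le_syl hDi hDp)).trans hp'
    have he := hc.core_eq_of_le hl hpr hM hW hU hX hUX hDX
    have hXU : X ≤ normalizer (U : Set Γ) := by
      rw [show U = Cfsg.pCoreOf r X from he.symm]
      exact le_normalizer.trans (le_normalizer_pCoreOf r X)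
    obtain ⟨-, h3⟩ := hc.normalizer_inf_le_max hM hUi hU
      (hc.ne_of_isPGroup (isPGroup_pCoreOf r M)) hMU
    exact (le_inf inf_le_left (((le_inf (le_inf (inf_le_left.trans (hc.syl_inv r).1)
      inf_le_right) inf_le_left).trans hr').trans hXU)).trans h3
  set R₀ := M ⊓ R
  have hR0i : Inv A G R₀ := hc.inv_inf hM.1.1 (hc.syl_inv r).2
  have hR0r : IsPGroup r R₀ := (hc.syl_isPGroup r).to_le inf_le_right
  by_contra hne
  have hlt : R₀ < R := lt_of_le_of_ne inf_le_right fun e => hne (e ▸ inf_le_left)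
  have hlt' := Transfer.lt_inf_normalizer (hc.syl_isPGroup r) hlt
  obtain ⟨b, hb, hb1, hbn⟩ := hc.exists_fixed_notLE
    (hc.inv_inf (hc.syl_inv r) (le_normalizer_normalizer hR0i.2))
    (L := M) (fun h => hlt'.not_ge (le_inf h inf_le_left))
  have hUR0 : U ≤ R₀ := le_inf hUM hUR
  -- `b` has no fixed point on `W`
  have hWb : W ⊓ centralizer {b} = ⊥ := by
    by_contra hWb
    set E := W ⊓ centralizer {b}
    refine hbn ((le_inf (inf_le_left.trans inf_le_left) ?_).trans
      (key E (hc.inv_inf hWi (hc.inv_K hb)) hWb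
        (hc.ne_of_isPGroup (hWp.to_le inf_le_left)) ?_ ?_))
    · refine le_trans (fun x hx => mem_centralizer_iff.mpr fun e he => ?_)
        (centralizer_le_normalizer (E : Set Γ))
      exact hc.hab b hb hb1 e ⟨hWi.1 he.1, he.2⟩ x ⟨(hc.syl_inv r).1 hx.1.1, hx.2⟩
    · exact (hUW.trans (centralizer_le inf_le_left)).trans
        (centralizer_le_normalizer (E : Set Γ))
    · exact ((inf_le_right : D ≤ centralizer (W : Set Γ)).trans (centralizer_le inf_le_left)).trans
        (centralizer_le_normalizer (E : Set Γ))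
  have hDb : D ⊓ centralizer {b} = ⊥ :=
    le_bot_iff.mp ((inf_le_inf_right _ inf_le_left).trans hWb.le)
  have hcent := hc.commutator_le_centralizer hb hb1 hpr.symm hR0i hR0r hDi hDp
    (inf_le_left.trans hMD) hDb
  set E := ⁅R₀, zpowers b⁆
  have hzA : zpowers b ≤ A := zpowers_le.mpr hb
  have hER0 : E ≤ R₀ := commutator_le_of_le_normalizer (hzA.trans hR0i.2)
  have hEi : Inv A G E := by
    refine ⟨hER0.trans hR0i.1, le_normalizer_commutator hR0i.2 ?_⟩
    intro a ha
    refine centralizer_le_normalizer (zpowers b : Set Γ) ?_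
    rw [centralizer_zpowers]
    exact mem_centralizer_singleton_iff.mpr (hc.commute ha hb).eq
  by_cases hE0 : E = ⊥
  · have hR0b : R₀ ≤ centralizer {b} := fun x hx => mem_centralizer_singleton_iff.mpr
      (commutatorElement_eq_one_iff_mul_comm.mp (mem_bot.mp (hE0 ▸
        commutator_mem_commutator hx (mem_zpowers b))))
    refine hbn ((le_inf (inf_le_left.trans inf_le_left) ?_).trans
      (key U hUi hU (hc.ne_of_isPGroup (isPGroup_pCoreOf r M)) le_normalizer
        ((map_subtype_le _ |> (inf_le_left : D ≤ W).trans).trans hMU)))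
    refine le_trans (fun x hx => mem_centralizer_iff.mpr fun e he => ?_)
      (centralizer_le_normalizer (U : Set Γ))
    exact hc.hab b hb hb1 e ⟨hUi.1 he, hR0b (hUR0 he)⟩ x ⟨(hc.syl_inv r).1 hx.1.1, hx.2⟩
  · refine hbn ((le_inf (inf_le_left.trans inf_le_left) ?_).trans
      (key E hEi hE0 (hc.ne_of_isPGroup (hR0r.to_le hER0)) ?_ ?_))
    · intro x hx
      have hxz : zpowers x ≤ normalizer (zpowers b : Set Γ) := by
        refine zpowers_le.mpr (le_trans le_rfl (centralizer_le_normalizer (zpowers b : Set Γ)) ?_)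
        rw [centralizer_zpowers]; exact hx.2
      exact le_normalizer_commutator (zpowers_le.mpr hx.1.2) hxz (mem_zpowers x)
    · exact hUR0.trans (normalizer_commutator_ge_left R₀ (zpowers b))
    · exact (centralizer_comm hcent).trans (centralizer_le_normalizer (E : Set Γ))

/-- No maximal `{p, r}`-subgroup has two non-trivial cores. -/
theorem core_eq_bot_or (hl : ¬ Linked A G p r) (hpr : p ≠ r) {M : Subgroup Γ}
    (hM : MaxPR A G p r M) : Cfsg.pCoreOf p M = ⊥ ∨ Cfsg.pCoreOf r M = ⊥ := by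
  by_contra hno
  push Not at hno
  exact hl ⟨M, hM.1, hc.syl_le_of_cores (fun h => hl h.symm) hpr.symm hM.symm hno.2 hno.1,
    hc.syl_le_of_cores hl hpr hM hno.1 hno.2⟩

/-- A maximal `{p, r}`-subgroup contains and normalises one of the two Sylow subgroups. -/
theorem max_type (hl : ¬ Linked A G p r) (hpr : p ≠ r) {M : Subgroup Γ} (hM : MaxPR A G p r M)
    (hr : Cfsg.pCoreOf r M = ⊥) : syl A G p ≤ M ∧ M ≤ normalizer (syl A G p : Set Γ) := by
  have hn := hc.le_normalizer_of_core_eq_bot hl hM.1 hr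
  set P₀ := M ⊓ syl A G p with hP₀
  have hP0i : Inv A G P₀ := hc.inv_inf hM.1.1 (hc.syl_inv p).2
  have hP0p : IsPGroup p P₀ := (hc.syl_isPGroup p).to_le inf_le_right
  by_cases h0 : P₀ = ⊥
  · exfalso
    haveI := hc.hsolv M hM.1.1.1 hM.1.1.2 (hc.pr_ne hl hM.1)
    have hF : fittingSubgroup M = ⊥ := by
      refine le_bot_iff.mp ((hc.fitting_le hM.1 hr).trans ?_)
      refine le_of_eq ((map_eq_bot_iff_of_injective _ M.subtype_injective).mp
        (le_bot_iff.mp ((le_inf (map_subtype_le _) (hc.pCoreOf_le_syl hM.1.1)).trans h0.le)))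
    have hMbot : M = ⊥ := by
      rw [eq_bot_iff]
      intro x hx
      have h1 : (⟨x, hx⟩ : M) ∈ centralizer (fittingSubgroup M : Set M) := by
        rw [hF, mem_centralizer_iff]
        intro y hy
        rw [mem_bot.mp hy, one_mul, mul_one]
      have h2 := Fitting.centralizer_fittingSubgroup_le h1
      rw [hF, mem_bot] at h2
      exact mem_bot.mpr (congrArg Subtype.val h2)
    have hP : syl A G p ≤ M :=
      hM.2 _ (hc.pr_of_isPGroup (hc.syl_inv p) (hc.syl_isPGroup p)) (hMbot ▸ bot_le)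
    exact hl ⟨syl A G r, (hc.pr_of_isPGroup (hc.syl_inv r) (hc.syl_isPGroup r)).symm,
      hP.trans (hMbot ▸ bot_le), le_rfl⟩
  obtain ⟨h1, -⟩ := hc.normalizer_inf_le_max hM hP0i h0 (hc.ne_of_isPGroup hP0p) hn
  have hPM : syl A G p ≤ M := by
    by_contra hne
    have hlt : P₀ < syl A G p := lt_of_le_of_ne inf_le_right fun e => hne (e ▸ inf_le_left)
    exact (Transfer.lt_inf_normalizer (hc.syl_isPGroup p) hlt).not_ge (le_inf h1 inf_le_left)
  rw [hP₀, inf_eq_right.mpr hPM] at hn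
  exact ⟨hPM, hn⟩

/-- An invariant proper subgroup respects one of the two Sylow subgroups. -/
theorem dichotomy (hl : ¬ Linked A G p r) (hpr : p ≠ r) {Y : Subgroup Γ} (hY : Inv A G Y)
    (hne : Y ≠ G) : Y ⊓ syl A G r ≤ normalizer (syl A G p : Set Γ) ∨
      Y ⊓ syl A G p ≤ normalizer (syl A G r : Set Γ) := by
  obtain ⟨M, hM, h1, h2⟩ := hc.exists_max_over (p := p) (r := r) hY hne
  rcases hc.core_eq_bot_or hl hpr hM with h | h
  · exact Or.inr (h1.trans (hc.max_type (fun e => hl e.symm) hpr.symm hM.symm h).2)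
  · exact Or.inl (h2.trans (hc.max_type hl hpr hM h).2)

/-- If `r` meets `N(P)`... the Sylow `p`-subgroup is self-centralising in its normaliser. -/
theorem centralizer_syl_eq_bot (hl : ¬ Linked A G p r) (hpr : p ≠ r) :
    syl A G r ⊓ centralizer (syl A G p : Set Γ) = ⊥ := by
  set P := syl A G p
  set R := syl A G r
  have hPne : P ≠ ⊥ := fun e => hl ⟨R, (hc.pr_of_isPGroup (hc.syl_inv r)
    (hc.syl_isPGroup r)).symm, e.le.trans bot_le, le_rfl⟩
  have hPG : P ≠ G := hc.ne_of_isPGroup (hc.syl_isPGroup p)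
  obtain ⟨M, hM, h1, h2⟩ := hc.exists_max_over (p := p) (r := r)
    (hc.inv_normalizer (hc.syl_inv p)) (hc.normalizer_ne (hc.syl_inv p) hPne hPG)
  have hPM : P ≤ M := (le_inf (le_inf (hc.syl_inv p).1 le_normalizer) le_rfl).trans h1
  have hr : Cfsg.pCoreOf r M = ⊥ := by
    rcases hc.core_eq_bot_or hl hpr hM with h | h
    · exact absurd ⟨M, hM.1, hPM, (hc.max_type (fun e => hl e.symm) hpr.symm hM.symm h).1⟩ hl
    · exact h
  obtain ⟨-, hMP⟩ := hc.max_type hl hpr hM hr
  set C := R ⊓ centralizer (P : Set Γ) with hC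
  have hCM : C ≤ M := (le_inf (le_inf (inf_le_left.trans (hc.syl_inv r).1)
    (inf_le_right.trans (centralizer_le_normalizer (P : Set Γ)))) inf_le_left).trans h2
  refine le_bot_iff.mp (le_trans (le_pCoreOf hCM ?_ ((hc.syl_isPGroup r).to_le inf_le_left)) hr.le)
  refine hc.le_of_pr hM.1 ?_ ?_
  · exact (inf_le_right.trans (centralizer_comm inf_le_right)).trans
      (centralizer_le_normalizer (C : Set Γ))
  · exact normalizer_inf_le (inf_le_right.trans le_normalizer)
      (le_normalizer_centralizer_of_le (inf_le_left.trans hMP))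

end Cfg

end Cfsg.Agent.Lib.AbFixed69
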