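import Cfsg.Agent.Lib.Coprime.FrobeniusAction
import Cfsg.Agent.Lib.Coprime.Quotient

/-!
# A group acting with an automorphism without fixed points

If `τ` has prime order and no fixed points on `S`, and both act coprimely on `V`, then `V` is
generated by `C_V(τ)` and `C_V(S)` as an `S`-invariant subgroup.
-/

set_option autoImplicit false

namespace Cfsg.Agent.Lib.AbFixed69

open Subgroup Cfsg.Agent.Lib.Coprime
open scoped commutatorElement IsMulCommutative

theorem le_of_fixedPointFree_comm {G : Type*} [Group G] [Finite G] {V S L : Subgroup G}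
    [IsMulCommutative V] {τ : G} {r : ℕ} (hr : r.Prime) (hτr : τ ^ r = 1)
    (hSV : S ≤ normalizer (V : Set G)) (hτV : τ ∈ normalizer (V : Set G))
    (hτS : τ ∈ normalizer (S : Set G)) (hSL : S ≤ normalizer (L : Set G))
    (hS : S ⊓ centralizer {τ} = ⊥) (hcop : (Nat.card S).Coprime (Nat.card V))
    (hLτ : V ⊓ centralizer {τ} ≤ L) (hLS : V ⊓ centralizer (S : Set G) ≤ L) : V ≤ L := by
  set E : Subgroup G := S ⊔ zpowers τ with hE
  have hEV : E ≤ normalizer (V : Set G) := sup_le hSV (zpowers_le.mpr hτV)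
  letI := Fintype.ofFinite S
  have hτE : τ ∈ E := mem_sup_right (mem_zpowers τ)
  let t : E := ⟨τ, hτE⟩
  let ι : S → E := fun s => ⟨s, mem_sup_left s.2⟩
  have hτpow : ∀ i : ℕ, τ ^ i ∈ normalizer (S : Set G) := fun i => pow_mem hτS i
  -- every `s τ` is `S`-conjugate to `τ`
  let d : S → S := fun u => ⟨u * (τ * (u : G)⁻¹ * τ⁻¹),
    S.mul_mem u.2 ((mem_normalizer_iff.mp hτS _).mp (S.inv_mem u.2))⟩
  have hd : Function.Surjective d := by
    refine Finite.injective_iff_surjective.mp fun u u' huu => ?_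
    have h : (u : G) * (τ * (u : G)⁻¹ * τ⁻¹) = u' * (τ * (u' : G)⁻¹ * τ⁻¹) :=
      congrArg Subtype.val huu
    have h2 : (u' : G)⁻¹ * u * τ = τ * ((u' : G)⁻¹ * u) := by
      calc (u' : G)⁻¹ * u * τ
          = (u' : G)⁻¹ * ((u : G) * (τ * (u : G)⁻¹ * τ⁻¹)) * τ * u := by group
        _ = τ * ((u' : G)⁻¹ * u) := by rw [h]; group
    have h3 : (u' : G)⁻¹ * u ∈ S ⊓ centralizer {τ} :=
      ⟨S.mul_mem (S.inv_mem u'.2) u.2, mem_centralizer_singleton_iff.mpr h2⟩
    rw [hS, mem_bot, inv_mul_eq_one] at h3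
    exact (Subtype.ext h3).symm
  have hconj : ∀ s : S, ∃ u : S, (s : G) * τ = u * τ * (u : G)⁻¹ := fun s => by
    obtain ⟨u, hu⟩ := hd s
    refine ⟨u, ?_⟩
    rw [← congrArg Subtype.val hu]
    simp [d, mul_assoc]
  have hpow : ∀ s : S, ((s : G) * τ) ^ r = 1 := fun s => by
    obtain ⟨u, hu⟩ := hconj s
    rw [hu, conj_pow, hτr, mul_one, mul_inv_cancel]
  intro x hxV
  let v : V := ⟨x, hxV⟩
  let c : E → V := fun g => conjEnd hEV g v
  have hcmul : ∀ g g' : E, c (g * g') = conjEnd hEV g (c g') := fun g g' => by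
    ext; simp [c, mul_assoc]
  -- the orbit product of each `s τ` is trivial
  let M : Subgroup V := L.subgroupOf V
  have hone : ∀ s : S, ∏ i ∈ Finset.range r, c ((ι s * t) ^ i) ∈ M := by
    intro s
    set w := ∏ i ∈ Finset.range r, c ((ι s * t) ^ i) with hw
    have hg : (ι s * t) ^ r = 1 := Subtype.ext (hpow s)
    have h : conjEnd hEV (ι s * t) w = w := by
      rw [hw, map_prod]
      simp only [← hcmul, ← pow_succ']
      obtain ⟨m, hm⟩ := Nat.exists_eq_succ_of_ne_zero hr.ne_zero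
      subst hm
      rw [Finset.prod_range_succ, Finset.prod_range_succ' (fun i => c ((ι s * t) ^ i)), pow_zero,
        ← Nat.succ_eq_add_one, hg]
    have h' : (s : G) * τ * w * ((s : G) * τ)⁻¹ = w := congrArg Subtype.val h
    obtain ⟨u, hu⟩ := hconj s
    rw [hu] at h'
    have h2 : (u : G)⁻¹ * w * u ∈ V ⊓ centralizer {τ} := by
      refine ⟨conj_mem_of_le_normalizer' hSV u.2 w.2, mem_centralizer_singleton_iff.mpr ?_⟩
      calc (u : G)⁻¹ * w * u * τ
          = (u : G)⁻¹ * ((u : G) * τ * (u : G)⁻¹ * w * ((u : G) * τ * (u : G)⁻¹)⁻¹) * u * τ := by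
            rw [h']
        _ = τ * ((u : G)⁻¹ * w * u) := by group
    show (w : G) ∈ L
    rw [show (w : G) = u * ((u : G)⁻¹ * w * u) * (u : G)⁻¹ by group]
    exact conj_mem_of_le_normalizer hSL u.2 (hLτ h2)
  have htot : ∏ i ∈ Finset.range r, ∏ s : S, c ((ι s * t) ^ i) ∈ M := by
    rw [Finset.prod_comm]
    exact prod_mem fun s _ => hone s
  have hrest : ∀ i : ℕ, i + 1 < r → ∏ s : S, c ((ι s * t) ^ (i + 1)) ∈ M := by
    intro i hi
    set y := c (t ^ (i + 1)) with hy
    have hmem : ∀ (s : S) (k : ℕ), ((s : G) * τ) ^ k * (τ ^ k)⁻¹ ∈ S := by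
      intro s k
      induction k with
      | zero => simp
      | succ k ih =>
        rw [show ((s : G) * τ) ^ (k + 1) * (τ ^ (k + 1))⁻¹ =
          ((s : G) * τ) ^ k * (τ ^ k)⁻¹ * (τ ^ k * s * (τ ^ k)⁻¹) by
          rw [pow_succ, pow_succ]; group]
        exact S.mul_mem ih ((mem_normalizer_iff.mp (hτpow k) _).mp s.2)
    let f : S → S := fun s => ⟨_, hmem s (i + 1)⟩
    have hf : Function.Bijective f := by
      refine Finite.injective_iff_bijective.mp fun s s' hss => ?_
      have h : ((s : G) * τ) ^ (i + 1) * (τ ^ (i + 1))⁻¹ =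
          ((s' : G) * τ) ^ (i + 1) * (τ ^ (i + 1))⁻¹ := congrArg Subtype.val hss
      have h2 := mul_right_cancel h
      have hco : r.Coprime (i + 1) :=
        hr.coprime_iff_not_dvd.mpr fun hd => absurd (Nat.le_of_dvd (Nat.succ_pos i) hd) hi.not_ge
      have hrec : ∀ z : S, ∀ n : ℕ, n ≡ 1 [MOD r] → ((z : G) * τ) ^ n = z * τ := fun z n hn => by
        conv_rhs => rw [← pow_one ((z : G) * τ)]
        exact pow_eq_pow_iff_modEq.mpr (hn.of_dvd (orderOf_dvd_of_pow_eq_one (hpow z)))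
      obtain ⟨j, -, hj⟩ := Nat.exists_mul_mod_eq_one_of_coprime hco.symm hr.one_lt
      have hj' : (i + 1) * j ≡ 1 [MOD r] := by
        rw [Nat.ModEq, hj, Nat.one_mod_eq_one.mpr hr.one_lt.ne']
      have h3 : (s : G) * τ = s' * τ := by
        rw [← hrec s _ hj', ← hrec s' _ hj', pow_mul, pow_mul, h2]
      exact Subtype.ext (mul_right_cancel h3)
    have hterm : ∀ s : S, c ((ι s * t) ^ (i + 1)) = conjEnd hSV (f s) y := fun s => by
      ext
      simp [c, y, f, ι, t, mul_assoc]
    simp only [hterm]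
    rw [Fintype.prod_bijective f hf (fun s => conjEnd hSV (f s) y) (fun s => conjEnd hSV s y)
      fun _ => rfl]
    have hn : Coprime.norm hSV y ∈ M :=
      hLS ⟨(Coprime.norm hSV y).2, norm_mem_centralizer hSV y⟩
    unfold Coprime.norm at hn
    rw [MonoidHom.finsetProd_apply] at hn
    convert hn using 3
  obtain ⟨m, hm⟩ := Nat.exists_eq_succ_of_ne_zero hr.ne_zero
  rw [hm, Finset.prod_range_succ' (n := m)] at htot
  have h1 : ∏ i ∈ Finset.range m, ∏ s : S, c ((ι s * t) ^ (i + 1)) ∈ M :=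
    prod_mem fun i hi => hrest i (by rw [hm]; exact Nat.succ_lt_succ (Finset.mem_range.mp hi))
  have h2 := (Subgroup.mul_mem_cancel_left _ h1).mp htot
  have hv : v ^ Nat.card S ∈ M := by
    have : ∀ s : S, c ((ι s * t) ^ 0) = v := fun s => by ext; simp [c, v]
    simp only [this] at h2
    rwa [Finset.prod_const, Finset.card_univ, ← Nat.card_eq_fintype_card] at h2
  obtain ⟨k, hk⟩ := exists_pow_eq_self_of_coprime (hcop.coprime_dvd_right (orderOf_dvd_natCard v))
  have h3 := M.pow_mem hv k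
  rw [hk] at h3
  exact h3

/-- The version for solvable `V`. -/
theorem le_of_fixedPointFree {G : Type*} [Group G] [Finite G] {r : ℕ} (hr : r.Prime) {τ : G}
    (hτr : τ ^ r = 1) :
    ∀ {V S L : Subgroup G}, Group.IsSolvable V → S ≤ normalizer (V : Set G) →
      τ ∈ normalizer (V : Set G) → τ ∈ normalizer (S : Set G) → S ≤ normalizer (L : Set G) →
      S ⊓ centralizer {τ} = ⊥ → (Nat.card S).Coprime (Nat.card V) → r.Coprime (Nat.card V) →
      V ⊓ centralizer {τ} ≤ L → V ⊓ centralizer (S : Set G) ≤ L → V ≤ L := by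
  intro V
  induction V using WellFoundedLT.induction with
  | _ V IH =>
  intro S L hsol hSV hτV hτS hSL hS hcop hrV hLτ hLS
  by_cases hV1 : V = ⊥
  · rw [hV1]; exact bot_le
  haveI := hsol
  haveI : Nontrivial V := (nontrivial_iff_ne_bot V).mpr hV1
  set N : Subgroup G := ⁅V, V⁆ with hN
  have hNV : N ≤ V := commutator_le_of_le_normalizer le_normalizer
  have hlt : N < V := by
    have h := Group.IsSolvable.commutator_lt_top_of_nontrivial (G := V)
    refine lt_of_le_of_ne hNV fun e => h.ne ?_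
    refine (Subgroup.map_injective V.subtype_injective) ?_
    rw [Subgroup.map_subtype_commutator, ← hN, e, ← MonoidHom.range_eq_map, range_subtype]
  have hSN := le_normalizer_commutator hSV hSV
  have hzτ : zpowers τ ≤ normalizer (V : Set G) := zpowers_le.mpr hτV
  have hτN : τ ∈ normalizer (N : Set G) :=
    le_normalizer_commutator hzτ hzτ (mem_zpowers τ)
  have hNL : N ≤ L := IH N hlt (isSolvable_of_le hNV hsol) hSN hτN hτS hSL hS
    (hcop.coprime_dvd_right (card_dvd_of_le hNV)) (hrV.coprime_dvd_right (card_dvd_of_le hNV))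
    ((inf_le_inf_right _ hNV).trans hLτ) ((inf_le_inf_right _ hNV).trans hLS)
  set Γ := normalizer (N : Set G) with hΓ
  have hVΓ : V ≤ Γ := le_normalizer_commutator le_normalizer le_normalizer
  haveI : (N.subgroupOf Γ).Normal := normal_in_normalizer
  set f := QuotientGroup.mk' (N.subgroupOf Γ) with hf
  have hker : f.ker = N.subgroupOf Γ := QuotientGroup.ker_mk' _
  let t : Γ := ⟨τ, hτN⟩
  let V₁ := V.subgroupOf Γ
  let S₁ := S.subgroupOf Γ
  let L₁ := (L ⊓ V).subgroupOf Γ
  have hsub : ∀ {X Y : Subgroup G}, X ≤ normalizer (Y : Set G) →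
      X.subgroupOf Γ ≤ normalizer ((Y.subgroupOf Γ : Subgroup Γ) : Set Γ) := by
    intro X Y h x hx
    rw [mem_normalizer_iff]
    intro y
    simp only [mem_subgroupOf, coe_mul, coe_inv]
    exact mem_normalizer_iff.mp (h hx) y
  have hcV : Nat.card V₁ = Nat.card V := Nat.card_congr (subgroupOfEquivOfLe hVΓ).toEquiv
  have hcS : Nat.card S₁ = Nat.card S := Nat.card_congr (subgroupOfEquivOfLe hSN).toEquiv
  have hzt : zpowers t ≤ normalizer (V₁ : Set Γ) :=
    zpowers_le.mpr (mem_normalizer_iff.mpr fun y => mem_normalizer_iff.mp hτV (y : G))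
  have hzS : zpowers t ≤ normalizer (S₁ : Set Γ) :=
    zpowers_le.mpr (mem_normalizer_iff.mpr fun y => mem_normalizer_iff.mp hτS (y : G))
  have hrt : Nat.card (zpowers t) ∣ r := by
    rw [Nat.card_zpowers, ← orderOf_injective Γ.subtype Γ.subtype_injective t]
    exact orderOf_dvd_of_pow_eq_one hτr
  have hkV : (f.ker ⊓ V₁ : Subgroup Γ) ≤ V₁ := inf_le_right
  have hkS : (f.ker ⊓ S₁ : Subgroup Γ) = ⊥ := by
    rw [eq_bot_iff, hker]
    rintro x ⟨hxN, hxS⟩
    have h1 : orderOf (x : G) = 1 := Nat.eq_one_of_dvd_coprimes hcop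
      (S.orderOf_dvd_natCard hxS) (V.orderOf_dvd_natCard (hNV hxN))
    exact mem_bot.mpr (Subtype.ext (orderOf_eq_one_iff.mp h1))
  have hmapτ : (V₁ ⊓ centralizer (zpowers t : Set Γ)).map f =
      V₁.map f ⊓ centralizer ((zpowers t).map f : Set (Γ ⧸ N.subgroupOf Γ)) :=
    map_inf_centralizer f hzt ((hrV.coprime_dvd_left hrt).coprime_dvd_right
      ((card_dvd_of_le hkV).trans (dvd_of_eq hcV))) (Or.inl inferInstance)
  have hmapS : (V₁ ⊓ centralizer (S₁ : Set Γ)).map f =
      V₁.map f ⊓ centralizer ((S₁).map f : Set (Γ ⧸ N.subgroupOf Γ)) :=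
    map_inf_centralizer f (hsub hSV) (hcS ▸ hcop.coprime_dvd_right
      ((card_dvd_of_le hkV).trans (dvd_of_eq hcV)))
      (Or.inr (isSolvable_of_le hkV
        (Group.isSolvable_of_isSolvable_injective (f := (subgroupOfEquivOfLe hVΓ).toMonoidHom)
          (subgroupOfEquivOfLe hVΓ).injective)))
  have hSfix : S₁.map f ⊓ centralizer ((zpowers t).map f : Set (Γ ⧸ N.subgroupOf Γ)) = ⊥ := by
    rw [← map_inf_centralizer f hzS (by rw [hkS, card_bot]; exact Nat.coprime_one_right _)
      (Or.inl inferInstance)]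
    rw [eq_bot_iff]
    rintro _ ⟨x, ⟨hx, hxc⟩, rfl⟩
    have : (x : G) ∈ S ⊓ centralizer {τ} := ⟨hx, mem_centralizer_singleton_iff.mpr
      (congrArg Subtype.val (mem_centralizer_iff.mp hxc t (mem_zpowers t))).symm⟩
    rw [hS, mem_bot] at this
    exact mem_bot.mpr (by rw [show x = 1 from Subtype.ext this, map_one])
  haveI : IsMulCommutative (V₁.map f) := by
    refine ⟨⟨?_⟩⟩
    rintro ⟨_, x, hx, rfl⟩ ⟨_, y, hy, rfl⟩
    refine Subtype.ext (show f x * f y = f y * f x from ?_)
    rw [← commutatorElement_eq_one_iff_mul_comm, ← map_commutatorElement, ← MonoidHom.mem_ker,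
      hker, mem_subgroupOf, hN]
    exact commutator_mem_commutator hx hy
  have hcz : centralizer {f t} ≤ centralizer ((zpowers t).map f : Set (Γ ⧸ N.subgroupOf Γ)) := by
    intro x hx
    rw [MonoidHom.map_zpowers, mem_centralizer_iff]
    intro y hy
    obtain ⟨k, rfl⟩ := mem_zpowers_iff.mp hy
    exact ((Commute.symm (mem_centralizer_singleton_iff.mp hx)).zpow_left k).eq
  have hmain := le_of_fixedPointFree_comm (G := Γ ⧸ N.subgroupOf Γ) (V := V₁.map f)
    (S := S₁.map f) (L := L₁.map f) (τ := f t) hr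
    (by rw [← map_pow, show t ^ r = 1 from Subtype.ext hτr, map_one])
    ((map_mono (hsub hSV)).trans (le_normalizer_map f))
    (le_normalizer_map f (mem_map_of_mem f (hzt (mem_zpowers t))))
    (le_normalizer_map f (mem_map_of_mem f (hzS (mem_zpowers t))))
    ((map_mono (hsub (le_inf hSL hSV |>.trans (fun g hg => mem_normalizer_iff.mpr fun y =>
      and_congr (mem_normalizer_iff.mp hg.1 y) (mem_normalizer_iff.mp hg.2 y))))).trans
      (le_normalizer_map f))
    (le_bot_iff.mp ((inf_le_inf_left _ hcz).trans hSfix.le))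
    ((hcS ▸ hcV ▸ hcop).coprime_dvd_left (card_map_dvd _ f) |>.coprime_dvd_right (card_map_dvd _ f))
    (by
      refine (inf_le_inf_left _ hcz).trans ?_
      rw [← hmapτ]
      refine map_mono fun x hx => ?_
      exact ⟨hLτ ⟨hx.1, mem_centralizer_singleton_iff.mpr
        (congrArg Subtype.val (mem_centralizer_iff.mp hx.2 t (mem_zpowers t))).symm⟩, hx.1⟩)
    (by
      rw [← hmapS]
      refine map_mono fun x hx => ?_
      refine ⟨hLS ⟨hx.1, mem_centralizer_iff.mpr fun s hs => ?_⟩, hx.1⟩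
      exact congrArg Subtype.val (mem_centralizer_iff.mp hx.2 ⟨s, hSN hs⟩ hs))
  intro v hv
  obtain ⟨l, hl, hle⟩ := hmain ⟨⟨v, hVΓ hv⟩, hv, rfl⟩
  have h1 : l⁻¹ * ⟨v, hVΓ hv⟩ ∈ f.ker := by
    rw [MonoidHom.mem_ker, map_mul, map_inv, hle, inv_mul_cancel]
  rw [hker] at h1
  rw [show v = (l : G) * (((l : G))⁻¹ * v) by group]
  exact L.mul_mem (show (l : G) ∈ L from hl.1) (hNL h1)

end Cfsg.Agent.Lib.AbFixed69
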