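import Cfsg.Agent.Lib.AbFixed69.Cores
import Cfsg.Agent.Lib.ZJ.NPC
import Cfsg.Agent.Lib.Hall.System
import Cfsg.Agent.Lib.Transfer.PResidual
import Cfsg.Agent.Lib.OddMax.Sec10.PLength

/-!
# No minimal configuration exists
-/

set_option autoImplicit false

namespace Cfsg.Agent.Lib.AbFixed69

open Subgroup Cfsg.Agent.Lib.Coprime
open scoped commutatorElement Pointwise

universe u

variable {Γ : Type u} [Group Γ] [Finite Γ]

namespace Cfg

variable {q : ℕ} {A G : Subgroup Γ} (hc : Cfg q A G) {p r : ℕ} [Fact p.Prime] [Fact r.Prime]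
include hc

theorem inv_commutator {X : Subgroup Γ} (hX : Inv A G X) {b : Γ} (hb : b ∈ A) :
    Inv A G ⁅X, zpowers b⁆ := by
  refine ⟨(commutator_le_of_le_normalizer ((zpowers_le.mpr hb).trans hX.2)).trans hX.1,
    le_normalizer_commutator hX.2 fun a ha => ?_⟩
  refine centralizer_le_normalizer (zpowers b : Set Γ) ?_
  rw [centralizer_zpowers]
  exact mem_centralizer_singleton_iff.mpr (hc.commute ha hb).eq

omit hc [Finite Γ] [Fact p.Prime] [Fact r.Prime] in
theorem le_centralizer_of_commutator_eq_bot {X : Subgroup Γ} {b : Γ}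
    (h : ⁅X, zpowers b⁆ = ⊥) : X ≤ centralizer {b} := fun x hx =>
  mem_centralizer_singleton_iff.mpr (commutatorElement_eq_one_iff_mul_comm.mp
    (mem_bot.mp (h ▸ commutator_mem_commutator hx (mem_zpowers b))))

/-- Two elements without fixed points on `W` force coprime operators to centralise `W`. -/
theorem le_centralizer_of_two {f f' : Γ} (hf : f ∈ A) (hf1 : f ≠ 1) (hf' : f' ∈ A)
    (hf'1 : f' ≠ 1) (hff : f ∉ zpowers f') (hpr : r ≠ p) {X W : Subgroup Γ} (hX : Inv A G X)
    (hXr : IsPGroup r X) (hW : Inv A G W) (hWp : IsPGroup p W)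
    (hXW : X ≤ normalizer (W : Set Γ)) (h : W ⊓ centralizer {f} = ⊥)
    (h' : W ⊓ centralizer {f'} = ⊥) : X ≤ centralizer (W : Set Γ) := by
  have h1 := hc.commutator_le_centralizer hf hf1 hpr hX hXr hW hWp hXW h
  have h2 := hc.commutator_le_centralizer hf' hf'1 hpr hX hXr hW hWp hXW h'
  set C := X ⊓ centralizer (W : Set Γ)
  have hC : Inv A G C := hc.inv_inf hX (le_normalizer_centralizer_of_le hW.2)
  intro x hx
  have key : ∀ a ∈ A, a * x * a⁻¹ * x⁻¹ ∈ C := by
    have hAC := hC.2
    let L : Subgroup Γ :=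
      { carrier := {a | a ∈ A ∧ a * x * a⁻¹ * x⁻¹ ∈ C}
        one_mem' := ⟨A.one_mem, by simp⟩
        mul_mem' := by
          rintro a a' ⟨ha, ha1⟩ ⟨ha', ha2⟩
          refine ⟨A.mul_mem ha ha', ?_⟩
          rw [show a * a' * x * (a * a')⁻¹ * x⁻¹ =
            a * (a' * x * a'⁻¹ * x⁻¹) * a⁻¹ * (a * x * a⁻¹ * x⁻¹) by group]
          exact C.mul_mem (conj_mem_of_le_normalizer hAC ha ha2) ha1
        inv_mem' := by
          rintro a ⟨ha, ha1⟩
          refine ⟨A.inv_mem ha, ?_⟩
          rw [show a⁻¹ * x * a⁻¹⁻¹ * x⁻¹ = a⁻¹ * (a * x * a⁻¹ * x⁻¹)⁻¹ * a by group]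
          exact conj_mem_of_le_normalizer' hAC ha (C.inv_mem ha1) }
    have hle : A ≤ L := by
      rw [← hc.closure_pair hf hf' hf'1 hff, closure_le]
      have aux : ∀ g ∈ A, ⁅X, zpowers g⁆ ≤ centralizer (W : Set Γ) → g ∈ L := fun g hg hgc => by
        have h3 : ⁅x, g⁆⁻¹ ∈ C :=
          C.inv_mem ⟨commutator_le_of_le_normalizer ((zpowers_le.mpr hg).trans hX.2)
            (commutator_mem_commutator hx (mem_zpowers g)),
            hgc (commutator_mem_commutator hx (mem_zpowers g))⟩
        rw [commutatorElement_inv, commutatorElement_def] at h3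
        exact ⟨hg, h3⟩
      rintro y (rfl | rfl)
      · exact aux _ hf h1
      · exact aux _ hf' h2
    exact fun a ha => (hle ha).2
  obtain ⟨c, hcA, hcC⟩ := exists_centralizer_mem_rightCoset hC.2 (hc.cop hC.1)
    (Or.inl hc.hAsolv) (k := x) key
  have hcG : c ∈ G := by
    rw [show c = c * x⁻¹ * x by group]
    exact G.mul_mem (hC.1 hcC) (hX.1 hx)
  have : c ∈ G ⊓ centralizer (A : Set Γ) := ⟨hcG, hcA⟩
  rw [hc.hfpf, mem_bot] at this
  subst this
  simpa using C.inv_mem hcC |>.2

theorem syl_ne_bot (hd : r ∣ Nat.card G) : syl A G r ≠ ⊥ := fun e => by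
  have h := hc.pow_dvd_card_inf_syl (r := r) (k := 1) hc.inv_top (by simpa using hd)
  rw [e, inf_bot_eq, card_bot, pow_one] at h
  exact (Fact.out : r.Prime).not_dvd_one h

theorem false_of_hasNormalPComplement (hd : r ∣ Nat.card G)
    (h : Cfsg.HasNormalPComplement r G) : False := by
  obtain ⟨P, N, hN, hcompl⟩ := h
  have hcard : Nat.card N * Nat.card (P : Subgroup G) = Nat.card G := hcompl.card_mul
  have hNr : ¬ r ∣ Nat.card N := by
    intro hdn
    have := P.not_dvd_index
    rw [← (P : Subgroup G).card_mul_index, mul_comm] at hcard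
    exact this (Nat.eq_of_mul_eq_mul_left Nat.card_pos hcard ▸ hdn)
  set N' := N.map G.subtype
  have hGN : G ≤ normalizer (N' : Set Γ) := by
    intro g hg
    have h := le_normalizer_map (H := N) G.subtype (mem_map_of_mem G.subtype
      (show (⟨g, hg⟩ : G) ∈ normalizer (N : Set G) by rw [normalizer_eq_top]; exact mem_top _))
    exact h
  have hAN : A ≤ normalizer (N' : Set Γ) := by
    refine le_normalizer_of_conj_mem fun a ha y hy => ?_
    obtain ⟨x, hx, rfl⟩ := hy
    let y : G := ⟨a * x * a⁻¹, conj_mem_of_le_normalizer hc.hAG ha x.2⟩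
    refine ⟨y, ?_, rfl⟩
    rw [SetLike.mem_coe, ← QuotientGroup.eq_one_iff]
    have ho : orderOf y = orderOf x := by
      rw [← orderOf_injective G.subtype G.subtype_injective y,
        ← orderOf_injective G.subtype G.subtype_injective x]
      exact (MulAut.conj a).orderOf_eq (x : Γ)
    have h1 : orderOf (y : G ⧸ N) ∣ Nat.card N :=
      ((orderOf_map_dvd (QuotientGroup.mk' N) y).trans (ho ▸ dvd_rfl)).trans
        (N.orderOf_dvd_natCard hx)
    have h2 : orderOf (y : G ⧸ N) ∣ Nat.card (P : Subgroup G) := by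
      refine orderOf_dvd_natCard (y : G ⧸ N) |>.trans ?_
      rw [← index_eq_card, hcompl.symm.index_eq_card]
    obtain ⟨k, hk⟩ := P.2.exists_card_eq
    rw [hk] at h2
    exact orderOf_eq_one_iff.mp (Nat.eq_one_of_dvd_coprimes
      (Nat.Coprime.pow_right k (((Fact.out : r.Prime).coprime_iff_not_dvd.mpr hNr).symm)) h1 h2)
  rcases hc.hmin N' (map_subtype_le _) hGN hAN with h0 | h1
  · refine hc.hns ?_
    have hN1 : N = ⊥ := (map_eq_bot_iff_of_injective _ G.subtype_injective).mp h0
    have hp : IsPGroup r G := by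
      obtain ⟨k, hk⟩ := P.2.exists_card_eq
      refine IsPGroup.of_card (n := k) ?_
      rw [← hcard, hN1, card_bot, one_mul, hk]
    haveI := hp.isNilpotent
    infer_instance
  · refine hNr ?_
    rw [← card_map_of_injective (K := N) G.subtype_injective, show N.map G.subtype = G from h1]
    exact hd

/-- An invariant Sylow subgroup is not centralised by an element of `A`. -/
theorem false_of_single (hd : r ∣ Nat.card G) {b : Γ} (hb : b ∈ A) (hb1 : b ≠ 1)
    (h : syl A G r ≤ centralizer {b}) : False := by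
  set R := syl A G r
  have hRi := hc.syl_inv r
  have hRp := hc.syl_isPGroup r
  have hR0 := hc.syl_ne_bot hd
  have hfix : ∀ f ∈ A, f ∉ zpowers b → R ⊓ centralizer {f} = ⊥ := fun f hf hfb =>
    eq_bot_iff.mpr fun x hx =>
      mem_bot.mpr (hc.fixed_two hf hb hb1 hfb (hRi.1 hx.1) hx.2 (h hx.1))
  obtain ⟨f, hf, hfb⟩ : ∃ f ∈ A, f ∉ zpowers b := by
    by_contra hno
    push Not at hno
    exact hc.hnc ((le_antisymm (show A ≤ zpowers b from hno) (zpowers_le.mpr hb)) ▸ inferInstance)
  have hfb1 : f * b ∉ zpowers b := fun hm => hfb (by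
    simpa using (zpowers b).mul_mem hm ((zpowers b).inv_mem (mem_zpowers b)))
  have hf1 : f ≠ 1 := fun e => hfb (e ▸ one_mem _)
  have hff : f ∉ zpowers (f * b) := by
    intro hm
    have hbf : b ∈ zpowers (f * b) := by
      simpa using (zpowers (f * b)).mul_mem ((zpowers (f * b)).inv_mem hm) (mem_zpowers (f * b))
    haveI := Fact.mk hc.hq
    refine hfb ?_
    have hle := zpowers_le.mpr hbf
    have : zpowers b = zpowers (f * b) := eq_of_le_of_card_ge hle (by
      rw [Nat.card_zpowers, Nat.card_zpowers, orderOf_eq_prime (hc.hpow b hb) hb1]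
      exact Nat.le_of_dvd hc.hq.pos (orderOf_dvd_of_pow_eq_one (hc.hpow _ (A.mul_mem hf hb))))
    rw [this]
    exact hm
  have hN : G ⊓ normalizer (R : Set Γ) ≤ centralizer (R : Set Γ) := by
    refine hc.le_of_syl (hc.inv_normalizer hRi) fun s hs _ => ?_
    haveI := Fact.mk hs
    by_cases hsr : s = r
    · subst hsr
      exact inf_le_right.trans (mem_centralizer_of_commute fun x hx y hy =>
        hc.hab b hb hb1 x ⟨hRi.1 hx, h hx⟩ y ⟨hRi.1 hy, h hy⟩)
    · exact hc.le_centralizer_of_two hf hf1 (A.mul_mem hf hb) (fun e => hfb1 (e ▸ one_mem _))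
        hff (p := r) (r := s) hsr (hc.inv_inf (hc.inv_normalizer hRi) (hc.syl_inv s).2)
        ((hc.syl_isPGroup s).to_le inf_le_right) hRi hRp (inf_le_left.trans inf_le_right)
        (hfix f hf hfb) (hfix _ (A.mul_mem hf hb) hfb1)
  obtain ⟨P, -, hP⟩ := hc.exists_syl r
  refine hc.false_of_hasNormalPComplement hd
    (Transfer.hasNormalPComplement_of_normalizer_le_centralizer P fun x hx => ?_)
  have h1 : (x : Γ) ∈ normalizer (R : Set Γ) := by
    have h2 := le_normalizer_map (H := (P : Subgroup G)) G.subtype (mem_map_of_mem G.subtype hx)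
    rwa [hP] at h2
  have h3 := hN ⟨x.2, h1⟩
  refine mem_centralizer_iff.mpr fun y hy => Subtype.ext ?_
  exact mem_centralizer_iff.mp h3 (y : Γ) (hP.le (mem_map_of_mem G.subtype hy))

/-- For odd `r`, two independent elements of `A` cannot both act freely on `R`. -/
theorem false_of_two_free (hr2 : r ≠ 2) (hd : r ∣ Nat.card G) {f f' : Γ} (hf : f ∈ A)
    (hf1 : f ≠ 1) (hf' : f' ∈ A) (hf'1 : f' ≠ 1) (hff : f ∉ zpowers f')
    (h : syl A G r ⊓ centralizer {f} = ⊥) (h' : syl A G r ⊓ centralizer {f'} = ⊥) : False := by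
  set R := syl A G r
  have hRi := hc.syl_inv r
  have hRp := hc.syl_isPGroup r
  set J := ZJ.zj 0 R
  have hJ0 : J ≠ ⊥ := ZJ.zj_ne_bot hRp (hc.syl_ne_bot hd) (Or.inl rfl)
  have hJR : J ≤ R := ZJ.zj_le 0 R
  have hJi : Inv A G J := ⟨hJR.trans hRi.1, hRi.2.trans (ZJ.normalizer_le 0 R)⟩
  set M := G ⊓ normalizer (J : Set Γ) with hMdef
  have hMi : Inv A G M := hc.inv_normalizer hJi
  have hMne : M ≠ G := hc.normalizer_ne hJi hJ0 (hc.ne_of_isPGroup (hRp.to_le hJR))
  haveI := hc.hsolv M hMi.1 hMi.2 hMne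
  set g := QuotientGroup.mk' (pPrimeCore r M) with hg
  set F := pPrimePCore r M
  haveI hFc : F.Characteristic := OddMax.Sec10.pPrimePCore_characteristic
  have hFi : Inv A G (F.map M.subtype) := ⟨(map_subtype_le _).trans hMi.1,
    hMi.2.trans (normalizer_le_normalizer_map_of_characteristic F)⟩
  set W := F.map M.subtype ⊓ R
  have hWi : Inv A G W := hc.inv_inf hFi hRi.2
  have hWp : IsPGroup r W := hRp.to_le inf_le_right
  have hWM : W ≤ M := inf_le_left.trans (map_subtype_le _)
  set W₁ := W.subgroupOf M with hW1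
  have hW1c : Nat.card W₁ = Nat.card W := Nat.card_congr (subgroupOfEquivOfLe hWM).toEquiv
  have hW1p : IsPGroup r W₁ := hWp.comap_subtype
  have hW1F : W₁ ≤ F := fun x hx => by
    obtain ⟨y, hy, e⟩ := (show (x : Γ) ∈ W from hx).1
    rwa [← Subtype.ext e]
  have hFnd : ¬ r ∣ (W₁.subgroupOf F).index := by
    intro hdd
    obtain ⟨k, hk⟩ := IsPGroup.iff_card.mp hWp
    have h1 : r ^ (k + 1) ∣ Nat.card (F.map M.subtype) := by
      rw [card_map_of_injective M.subtype_injective, ← card_mul_index (W₁.subgroupOf F),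
        Nat.card_congr (subgroupOfEquivOfLe hW1F).toEquiv, hW1c, hk, pow_succ]
      exact Nat.mul_dvd_mul_left _ hdd
    have h2 := Nat.le_of_dvd Nat.card_pos (hc.pow_dvd_card_inf_syl hFi h1)
    have h3 : Nat.card W = r ^ k := hk
    rw [h3] at h2
    exact absurd h2 (not_le.mpr (Nat.pow_lt_pow_right (Fact.out : r.Prime).one_lt k.lt_succ_self))
  let S : Sylow r F := IsPGroup.toSylow (P := W₁.subgroupOf F) hW1p.comap_subtype hFnd
  have hSmap : (S : Subgroup F).map F.subtype = W₁ := map_subgroupOf_eq_of_le hW1F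
  have hfrat : normalizer (W₁ : Set M) ⊔ F = ⊤ := by
    rw [← hSmap]
    exact S.normalizer_sup_eq_top
  have hFimg : F.map g = pCore r (M ⧸ pPrimeCore r M) := PSolvable.map_mk'_pPrimePCore
  have hWimg : W₁.map g = F.map g := by
    have hsurj : Function.Surjective (g.subgroupMap F) := g.subgroupMap_surjective F
    have h1 := (S.mapSurjective hsurj)
    have h2 : ((S.mapSurjective hsurj : Sylow r (F.map g)) : Subgroup (F.map g)) = ⊤ := by
      refine ((S.mapSurjective hsurj).3 ?_ le_top).symm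
      exact (hFimg ▸ PSolvable.pCore_isPGroup : IsPGroup r (F.map g)).to_subgroup ⊤
    refine le_antisymm (map_mono hW1F) ?_
    rintro _ ⟨x, hx, rfl⟩
    have : (g.subgroupMap F ⟨x, hx⟩) ∈ (S.mapSurjective hsurj : Subgroup (F.map g)) := by
      rw [h2]; exact mem_top _
    obtain ⟨y, hy, he⟩ := this
    exact ⟨(y : M), hy, congrArg Subtype.val he⟩
  set N := M ⊓ normalizer (W : Set Γ) with hN
  have hNi : Inv A G N := hc.inv_inf hMi (le_normalizer_normalizer hWi.2)
  have hNM : N ≤ M := inf_le_left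
  have hnle : normalizer (W₁ : Set M) ≤ N.subgroupOf M := by
    intro x hx
    refine ⟨x.2, ?_⟩
    have := le_normalizer_map (H := W₁) M.subtype (mem_map_of_mem M.subtype hx)
    rwa [map_subgroupOf_eq_of_le hWM] at this
  have hNimg : (N.subgroupOf M).map g = ⊤ := by
    rw [eq_top_iff, ← map_top_of_surjective g (QuotientGroup.mk'_surjective _), ← hfrat,
      Subgroup.map_sup, ← hWimg]
    exact sup_le (map_mono hnle) (map_mono (fun x hx => ⟨x.2, le_normalizer hx⟩))
  have hfit : fittingSubgroup (M ⧸ pPrimeCore r M) ≤ pCore r (M ⧸ pPrimeCore r M) := by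
    rw [Fitting.fittingSubgroup_eq_iSup_pCore]
    refine iSup_le fun s => ?_
    haveI := Fact.mk s.2
    by_cases hsr : (s : ℕ) = r
    · rw [hsr]
    · refine le_trans (Fitting.pCore_le_pPrimeCore_of_ne hsr) ?_
      rw [PSolvable.pPrimeCore_quotient_eq_bot]
      exact bot_le
  have hquot : IsPGroup r (M ⧸ pPrimeCore r M) := by
    refine IsPGroup.of_card (n := (Nat.card (M ⧸ pPrimeCore r M)).primeFactorsList.length)
      (Nat.eq_prime_pow_of_unique_prime_dvd Nat.card_pos.ne' fun {s} hs hsd => ?_)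
    by_contra hsr
    haveI := Fact.mk hs
    set X := N ⊓ syl A G s with hX
    have hXi : Inv A G X := hc.inv_inf hNi (hc.syl_inv s).2
    have hXp : IsPGroup s X := (hc.syl_isPGroup s).to_le inf_le_right
    have hXW : X ≤ centralizer (W : Set Γ) := hc.le_centralizer_of_two hf hf1 hf' hf'1 hff
      (p := r) (r := s) hsr hXi hXp hWi hWp (inf_le_left.trans inf_le_right)
      (le_bot_iff.mp ((inf_le_inf_right _ inf_le_right).trans h.le))
      (le_bot_iff.mp ((inf_le_inf_right _ inf_le_right).trans h'.le))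
    have hXK : X.subgroupOf M ≤ g.ker := by
      intro x hx
      have h1 : g x ∈ centralizer (pCore r (M ⧸ pPrimeCore r M) : Set (M ⧸ pPrimeCore r M)) := by
        rw [← hFimg, ← hWimg, mem_centralizer_iff]
        rintro _ ⟨w, hw, rfl⟩
        rw [← map_mul, ← map_mul]
        exact congrArg g (Subtype.ext (mem_centralizer_iff.mp (hXW hx) (w : Γ) hw))
      have h2 : g x ∈ pCore r (M ⧸ pPrimeCore r M) :=
        hfit (Fitting.centralizer_fittingSubgroup_le
          (centralizer_le (SetLike.coe_subset_coe.mpr hfit) h1))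
      obtain ⟨i, hi⟩ := hXp ⟨(x : Γ), hx⟩
      obtain ⟨j, hj⟩ := PSolvable.pCore_isPGroup (p := r) ⟨g x, h2⟩
      rw [MonoidHom.mem_ker, ← orderOf_eq_one_iff]
      refine Nat.eq_one_of_dvd_coprimes (Nat.Coprime.pow i j
        ((Nat.coprime_primes hs Fact.out).mpr hsr)) ?_ ?_
      · refine orderOf_dvd_of_pow_eq_one ?_
        rw [← map_pow, show x ^ s ^ i = 1 from Subtype.ext (by simpa using congrArg Subtype.val hi),
          map_one]
      · exact orderOf_dvd_of_pow_eq_one (by simpa using congrArg Subtype.val hj)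
    -- the index of the kernel in `N` is prime to `s`
    set K := g.ker.subgroupOf (N.subgroupOf M)
    have hidx : K.index = Nat.card (M ⧸ pPrimeCore r M) := by
      have h1 : K = (g.comp (N.subgroupOf M).subtype).ker := by
        rw [← MonoidHom.comap_ker]; rfl
      rw [h1, index_ker, MonoidHom.range_comp, range_subtype, hNimg, card_top]
    have hNc : Nat.card (N.subgroupOf M) = Nat.card N :=
      Nat.card_congr (subgroupOfEquivOfLe hNM).toEquiv
    set e := (Nat.card N).factorization s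
    have h1 : s ^ e ∣ Nat.card K := by
      refine (hc.pow_dvd_card_inf_syl hNi (Nat.ordProj_dvd _ _)).trans ?_
      have hle : (X.subgroupOf M).subgroupOf (N.subgroupOf M) ≤ K := fun x hx => hXK hx
      refine dvd_trans ?_ (card_dvd_of_le hle)
      rw [Nat.card_congr (subgroupOfEquivOfLe (fun x hx => (inf_le_left : X ≤ N) hx :
          X.subgroupOf M ≤ N.subgroupOf M)).toEquiv,
        Nat.card_congr (subgroupOfEquivOfLe ((inf_le_left : X ≤ N).trans hNM)).toEquiv]
    have h2 : s ^ (e + 1) ∣ Nat.card N := by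
      rw [← hNc, ← card_mul_index K, pow_succ, hidx]
      exact Nat.mul_dvd_mul h1 hsd
    exact Nat.pow_succ_factorization_not_dvd Nat.card_pos.ne' hs h2
  have hnpM : Cfsg.HasNormalPComplement r M :=
    Transfer.hasNormalPComplement_of_isPGroup_quotient _
      (fun hdd => PSolvable.pPrimeCore_not_dvd hdd) hquot
  obtain ⟨P, -, hP⟩ := hc.exists_syl r
  refine hc.false_of_hasNormalPComplement hd (ZJ.hasNormalPComplement_of_zj hr2 P ?_)
  set L := normalizer (ZJ.zj 0 (P : Subgroup G) : Set G)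
  have hzP : (ZJ.zj 0 (P : Subgroup G)).map G.subtype = J := by
    rw [← ZJ.zj_map G.subtype G.subtype_injective.injOn, hP]
  have hLM : L.map G.subtype ≤ M := by
    refine le_inf (map_subtype_le _) ?_
    rw [← hzP]
    exact le_normalizer_map G.subtype
  exact Transfer.hasNormalPComplement_of_injective
    ((inclusion hLM).comp (G.subtype.subgroupMap L))
    ((inclusion_injective hLM).comp fun x y hxy =>
      Subtype.ext (Subtype.ext (show ((x : G) : Γ) = ((y : G) : Γ) from
        congrArg (fun z : L.map G.subtype => (z : Γ)) hxy))) hnpM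

theorem centralizer_singleton_ne {a : Γ} (ha : a ∈ A) (ha1 : a ≠ 1) :
    G ⊓ centralizer {a} ≠ G := fun h =>
  hc.hns (Group.isSolvable_of_comm fun x y => Subtype.ext
    (hc.hab a ha ha1 x (h.symm.le x.2) y (h.symm.le y.2)))

theorem linked_of_normalizes (hr : r ∣ Nat.card G)
    (h : syl A G p ≤ normalizer (syl A G r : Set Γ)) : Linked A G p r := by
  obtain ⟨X, hX, -, h1, h2⟩ := hc.exists_hall (p := p) (r := r)
    (hc.inv_normalizer (hc.syl_inv r)) (hc.normalizer_ne (hc.syl_inv r) (hc.syl_ne_bot hr)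
      (hc.ne_of_isPGroup (hc.syl_isPGroup r)))
  exact ⟨X, hX, (le_inf (le_inf (hc.syl_inv p).1 h) le_rfl).trans h1,
    (le_inf (le_inf (hc.syl_inv r).1 le_normalizer) le_rfl).trans h2⟩

theorem exists_outside_two {c e : Γ} (hcA : c ∈ A) (hc1 : c ≠ 1) (heA : e ∈ A) (he1 : e ≠ 1) :
    ∃ d ∈ A, d ∉ zpowers c ∧ d ∉ zpowers e := by
  haveI := Fact.mk hc.hq
  by_cases hce : e ∈ zpowers c
  · have hle : zpowers e ≤ zpowers c := zpowers_le.mpr hce
    by_contra hno
    push Not at hno
    refine hc.hnc ((le_antisymm (fun d hd => ?_) (zpowers_le.mpr hcA) : A = zpowers c) ▸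
      inferInstance)
    by_contra hd'
    exact hd' (hle (hno d hd hd'))
  · refine ⟨c * e, A.mul_mem hcA heA, fun hm => hce ?_, fun hm => hce ?_⟩
    · simpa using (zpowers c).mul_mem ((zpowers c).inv_mem (mem_zpowers c)) hm
    · have hce' : c ∈ zpowers e := by
        simpa using (zpowers e).mul_mem hm ((zpowers e).inv_mem (mem_zpowers e))
      have : zpowers c = zpowers e := eq_of_le_of_card_ge (zpowers_le.mpr hce') (by
        rw [Nat.card_zpowers, Nat.card_zpowers, orderOf_eq_prime (hc.hpow c hcA) hc1,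
          orderOf_eq_prime (hc.hpow e heA) he1])
      rw [this]
      exact mem_zpowers e

/-- An element outside the normaliser with a fixed point on `P` determines a line. -/
theorem exists_line (hl : ¬ Linked A G p r) (hpr : p ≠ r) (hp : p ∣ Nat.card G)
    (hr : r ∣ Nat.card G) {b : Γ} (hb : b ∈ A) (hb1 : b ≠ 1)
    (hbR : ¬ syl A G r ⊓ centralizer {b} ≤ normalizer (syl A G p : Set Γ))
    (hbP : syl A G p ⊓ centralizer {b} ≠ ⊥) :
    ∃ c ∈ A, c ≠ 1 ∧ ∀ d ∈ A, d ∉ zpowers c →
      ¬ syl A G r ⊓ centralizer {d} ≤ normalizer (syl A G p : Set Γ) := by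
  set P := syl A G p
  set R := syl A G r
  have hPi := hc.syl_inv p
  have hRi := hc.syl_inv r
  have hPp := hc.syl_isPGroup p
  have hRr := hc.syl_isPGroup r
  set Pb := P ⊓ centralizer {b}
  have hPbi : Inv A G Pb := hc.inv_inf hPi (hc.inv_K hb)
  have hRbY : R ⊓ centralizer {b} ≤ centralizer (Pb : Set Γ) := fun x hx =>
    mem_centralizer_iff.mpr fun y hy =>
      hc.hab b hb hb1 y ⟨hPi.1 hy.1, hy.2⟩ x ⟨hRi.1 hx.1, hx.2⟩
  set Z := zOf P with hZdef
  have hZi : Inv A G Z := hc.inv_zOf hPi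
  have hZY : Z ≤ centralizer (Pb : Set Γ) :=
    (inf_le_right : Z ≤ centralizer (P : Set Γ)).trans (centralizer_le inf_le_left)
  have hY := hc.centralizer_ne hPbi hbP (hc.ne_of_isPGroup (hPp.to_le inf_le_left))
  have hZR : Z ≤ normalizer (R : Set Γ) := by
    rcases hc.dichotomy hl hpr (hc.inv_centralizer hPbi) hY with h | h
    · exact absurd ((le_inf (le_inf (inf_le_left.trans hRi.1) hRbY) inf_le_left).trans h) hbR
    · exact (le_inf (le_inf hZi.1 hZY) inf_le_left).trans h
  set Rs := R ⊓ normalizer (P : Set Γ) with hRs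
  have hRsZ : Rs ≤ centralizer (Z : Set Γ) := fun x hx => mem_centralizer_iff.mpr fun z hz =>
    (Bender.commute_of_mem_inter (hc.disjoint_of_ne hpr (hPp.to_le inf_le_left) hRr) hz hx.1
      (normalizer_le_normalizer_zOf P hx.2) (hZR hz)).eq
  obtain ⟨c, hcA, hc1, hcZ⟩ := hc.exists_fixed_ne_bot hZi (zOf_ne_bot hPp (hc.syl_ne_bot hp))
  set Zc := Z ⊓ centralizer {c}
  have hZci : Inv A G Zc := hc.inv_inf hZi (hc.inv_K hcA)
  have hZcP : Zc ≤ P := inf_le_left.trans inf_le_left
  have hCR : R ⊓ centralizer (Zc : Set Γ) ≤ normalizer (P : Set Γ) := by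
    rcases hc.dichotomy hl hpr (hc.inv_centralizer hZci)
      (hc.centralizer_ne hZci hcZ (hc.ne_of_isPGroup (hPp.to_le hZcP))) with h | h
    · exact (le_inf (le_inf (inf_le_left.trans hRi.1) inf_le_right) inf_le_left).trans h
    · refine absurd (hc.linked_of_normalizes hr (le_trans ?_ h)) hl
      exact le_inf (le_inf hPi.1 ((le_centralizer_zOf P).trans (centralizer_le inf_le_left))) le_rfl
  refine ⟨c, hcA, hc1, fun d hd hdc hle => ?_⟩
  haveI := hRr.isNilpotent
  have hRP : R ≤ Rs := by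
    refine le_of_fixedPointFree hc.hq (hc.hpow d hd) inferInstance
      ((inf_le_left.trans hZR)) (hRi.2 hd) (hZci.2 hd) ?_
      (hc.fixed_inter hd hcA hc1 hdc hZi.1 |> fun e => by
        rw [show Zc ⊓ centralizer {d} = Z ⊓ centralizer {d} ⊓ centralizer {c} from
          inf_right_comm _ _ _]
        exact e)
      ((IsPGroup.coprime_card_of_ne (p₁ := p) (p₂ := r) hpr P R hPp hRr).coprime_dvd_left
        (card_dvd_of_le hZcP))
      (hc.q_cop hRi.1) (le_inf inf_le_left hle) (le_inf inf_le_left hCR)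
    exact ((inf_le_left : Zc ≤ Z).trans (centralizer_comm hRsZ)).trans
      (centralizer_le_normalizer (Rs : Set Γ))
  exact hl (hc.linked_of_normalizes hp (hRP.trans inf_le_right)).symm

/-- Two primes not linked: an element outside the normaliser has no fixed point on `P`. -/
theorem fixed_eq_bot (hl : ¬ Linked A G p r) (hpr : p ≠ r) (hp : p ∣ Nat.card G)
    (hr : r ∣ Nat.card G) {b : Γ} (hb : b ∈ A) (hb1 : b ≠ 1)
    (hbR : ¬ syl A G r ⊓ centralizer {b} ≤ normalizer (syl A G p : Set Γ)) :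
    syl A G p ⊓ centralizer {b} = ⊥ := by
  by_contra hbP
  obtain ⟨c, hcA, hc1, hline⟩ := hc.exists_line hl hpr hp hr hb hb1 hbR hbP
  set P := syl A G p
  set R := syl A G r
  have hPi := hc.syl_inv p
  have hRi := hc.syl_inv r
  have hPp := hc.syl_isPGroup p
  have hRr := hc.syl_isPGroup r
  have hl' : ¬ Linked A G r p := fun h => hl h.symm
  have hPd : ∀ d ∈ A, d ∉ zpowers c → P ⊓ centralizer {d} ≤ normalizer (R : Set Γ) := by
    intro d hd hdc
    have hd1 : d ≠ 1 := fun e => hdc (e ▸ one_mem _)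
    rcases hc.dichotomy hl hpr (Y := G ⊓ centralizer {d})
      (hc.inv_inf hc.inv_top (hc.inv_K hd)) (hc.centralizer_singleton_ne hd hd1) with h | h
    · exact absurd ((le_inf (le_inf (inf_le_left.trans hRi.1) inf_le_right) inf_le_left).trans h)
        (hline d hd hdc)
    · exact (le_inf (le_inf (inf_le_left.trans hPi.1) inf_le_right) inf_le_left).trans h
  have hPc : ¬ P ⊓ centralizer {c} ≤ normalizer (R : Set Γ) := fun h => by
    refine hl (hc.linked_of_normalizes hr (hc.le_of_fixed hPi fun d hd hd1 => ?_))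
    by_cases hdc : d ∈ zpowers c
    · rw [hc.centralizer_eq_of_mem hcA hd1 hdc]; exact h
    · exact hPd d hd hdc
  have hRc : R ⊓ centralizer {c} = ⊥ := by
    by_contra hRc
    obtain ⟨e, heA, he1, hline'⟩ := hc.exists_line (p := r) (r := p) hl' hpr.symm hr hp hcA hc1
      hPc hRc
    obtain ⟨d, hd, hdc, hde⟩ := hc.exists_outside_two hcA hc1 heA he1
    exact hline' d hd hde (hPd d hd hdc)
  set Ps := P ⊓ normalizer (R : Set Γ) with hPs
  have hPsi : Inv A G Ps := hc.inv_inf hPi (le_normalizer_normalizer hRi.2)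
  have h1 := hc.commutator_le_centralizer hcA hc1 hpr hPsi (hPp.to_le inf_le_left) hRi hRr
    inf_le_right hRc
  have h2 : ⁅Ps, zpowers c⁆ = ⊥ := le_bot_iff.mp ((le_inf
    ((commutator_le_of_le_normalizer ((zpowers_le.mpr hcA).trans hPsi.2)).trans inf_le_left)
    h1).trans (hc.centralizer_syl_eq_bot hl' hpr.symm).le)
  refine hc.false_of_single hp hcA hc1 (hc.le_of_fixed hPi fun d hd hd1 => ?_)
  by_cases hdc : d ∈ zpowers c
  · rw [hc.centralizer_eq_of_mem hcA hd1 hdc]; exact inf_le_right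
  · exact ((le_inf inf_le_left (hPd d hd hdc) : P ⊓ centralizer {d} ≤ Ps)).trans
      (le_centralizer_of_commutator_eq_bot h2)

/-- Two primes not linked: their fixed-point supports are disjoint. -/
theorem disjoint_support (hl : ¬ Linked A G p r) (hpr : p ≠ r) (hp : p ∣ Nat.card G)
    (hr : r ∣ Nat.card G) {a : Γ} (ha : a ∈ A) (ha1 : a ≠ 1)
    (haR : syl A G r ⊓ centralizer {a} ≠ ⊥) : syl A G p ⊓ centralizer {a} = ⊥ := by
  set P := syl A G p
  set R := syl A G r
  have hPi := hc.syl_inv p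
  have hRi := hc.syl_inv r
  have hPp := hc.syl_isPGroup p
  have hRr := hc.syl_isPGroup r
  set Rs := R ⊓ normalizer (P : Set Γ) with hRs
  have hRsi : Inv A G Rs := hc.inv_inf hRi (le_normalizer_normalizer hPi.2)
  have hfree : ∀ b ∈ A, b ≠ 1 → ¬ R ⊓ centralizer {b} ≤ normalizer (P : Set Γ) →
      Rs ≤ centralizer {b} := by
    intro b hb hb1 hbR
    have h1 := hc.commutator_le_centralizer hb hb1 hpr.symm hRsi (hRr.to_le inf_le_left) hPi hPp
      inf_le_right (hc.fixed_eq_bot hl hpr hp hr hb hb1 hbR)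
    refine le_centralizer_of_commutator_eq_bot (le_bot_iff.mp ((le_inf
      ((commutator_le_of_le_normalizer ((zpowers_le.mpr hb).trans hRsi.2)).trans inf_le_left)
      h1).trans (hc.centralizer_syl_eq_bot hl hpr).le))
  by_cases hRs0 : Rs = ⊥
  · refine hc.fixed_eq_bot hl hpr hp hr ha ha1 fun h => haR (le_bot_iff.mp ?_)
    exact (le_inf inf_le_left h).trans hRs0.le
  · exfalso
    obtain ⟨b, hb, hb1, hbR⟩ := hc.exists_fixed_notLE hRi (L := normalizer (P : Set Γ))
      (fun h => hl (hc.linked_of_normalizes hp h).symm)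
    refine hc.false_of_single hr hb hb1 (hc.le_of_fixed hRi fun d hd hd1 => ?_)
    by_cases hdb : d ∈ zpowers b
    · rw [hc.centralizer_eq_of_mem hb hd1 hdb]; exact inf_le_right
    by_cases hdR : R ⊓ centralizer {d} ≤ normalizer (P : Set Γ)
    · exact (le_inf inf_le_left hdR : R ⊓ centralizer {d} ≤ Rs).trans (hfree b hb hb1 hbR)
    · exact absurd (le_bot_iff.mp ((le_inf (le_inf le_rfl (hfree d hd hd1 hdR))
        (hfree b hb hb1 hbR)).trans (hc.fixed_inter hd hb hb1 hdb hRsi.1).le)) hRs0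

theorem linked (hpr : p ≠ r) : Linked A G p r := by
  by_cases hp : p ∣ Nat.card G
  swap
  · refine ⟨syl A G r, (hc.pr_of_isPGroup (hc.syl_inv r) (hc.syl_isPGroup r)).symm, ?_, le_rfl⟩
    obtain ⟨k, hk⟩ := IsPGroup.iff_card.mp (hc.syl_isPGroup p)
    rcases Nat.eq_zero_or_pos k with rfl | hk0
    · rw [eq_bot_of_card_eq (syl A G p) (by simpa using hk)]; exact bot_le
    · exact absurd ((dvd_pow_self p hk0.ne').trans (hk ▸ card_dvd_of_le (hc.syl_inv p).1)) hp
  by_cases hr : r ∣ Nat.card G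
  swap
  · refine ⟨syl A G p, hc.pr_of_isPGroup (hc.syl_inv p) (hc.syl_isPGroup p), le_rfl, ?_⟩
    obtain ⟨k, hk⟩ := IsPGroup.iff_card.mp (hc.syl_isPGroup r)
    rcases Nat.eq_zero_or_pos k with rfl | hk0
    · rw [eq_bot_of_card_eq (syl A G r) (by simpa using hk)]; exact bot_le
    · exact absurd ((dvd_pow_self r hk0.ne').trans (hk ▸ card_dvd_of_le (hc.syl_inv r).1)) hr
  by_contra hl
  have main : ∀ (u v : ℕ) [Fact u.Prime] [Fact v.Prime], u ∣ Nat.card G → v ∣ Nat.card G →
      v ≠ 2 → (∀ a ∈ A, a ≠ 1 → syl A G u ⊓ centralizer {a} ≠ ⊥ →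
        syl A G v ⊓ centralizer {a} = ⊥) → False := by
    intro u v _ _ hu hv hv2 hdis
    obtain ⟨a, ha, ha1, haP⟩ := hc.exists_fixed_ne_bot (hc.syl_inv u) (hc.syl_ne_bot hu)
    obtain ⟨a', ha', ha'1, haP'⟩ := hc.exists_fixed_notLE (hc.syl_inv u)
      (L := centralizer {a}) (fun h => hc.false_of_single hu ha ha1 h)
    have haa : a' ∉ zpowers a := fun h => haP' (by
      rw [hc.centralizer_eq_of_mem ha ha'1 h]; exact inf_le_right)
    exact hc.false_of_two_free hv2 hv ha' ha'1 ha ha1 haa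
      (hdis a' ha' ha'1 (fun e => haP' (e.le.trans bot_le))) (hdis a ha ha1 haP)
  by_cases hr2 : r = 2
  · refine main r p hr hp (fun h => hpr (h.trans hr2.symm)) fun a ha ha1 h => ?_
    exact hc.disjoint_support hl hpr hp hr ha ha1 h
  · refine main p r hp hr hr2 fun a ha ha1 h => ?_
    exact hc.disjoint_support (p := r) (r := p) (fun e => hl e.symm) hpr.symm hr hp ha ha1 h

theorem false_of_cfg : False := by
  classical
  refine hc.hns ?_
  have hex : ∀ s : Nat.Primes, ∃ S : Sylow (s : ℕ) G,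
      (S : Subgroup G).map G.subtype = syl A G s := fun s => by
    haveI := Fact.mk s.2
    obtain ⟨S, -, hS⟩ := hc.exists_syl (s : ℕ)
    exact ⟨S, hS⟩
  choose S hS using hex
  refine Hall.isSolvable_of_sylow_system S fun s t => ?_
  by_cases hst : s = t
  · subst hst; rfl
  haveI := Fact.mk s.2
  haveI := Fact.mk t.2
  obtain ⟨X, hX, hsX, htX⟩ := hc.linked (p := (s : ℕ)) (r := (t : ℕ))
    (fun h => hst (Subtype.ext h))
  have hXG := hX.1.1
  set X₁ := X.subgroupOf G
  have hsX₁ : (S s : Subgroup G) ≤ X₁ := fun x hx => hsX (hS s ▸ mem_map_of_mem G.subtype hx)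
  have htX₁ : (S t : Subgroup G) ≤ X₁ := fun x hx => htX (hS t ▸ mem_map_of_mem G.subtype hx)
  have hcop := Hall.coprime_sylow_card hst (S s) (S t)
  have hdvd : Nat.card X₁ ∣ Nat.card (S s : Subgroup G) * Nat.card (S t : Subgroup G) := by
    refine (Nat.dvd_iff_prime_pow_dvd_dvd _ _).mpr fun v k hv hk => ?_
    haveI := Fact.mk hv
    rcases Nat.eq_zero_or_pos k with rfl | hk0
    · simp
    have hvX : v ∣ Nat.card X := by
      rw [← Nat.card_congr (subgroupOfEquivOfLe hXG).toEquiv]
      exact (dvd_pow_self v hk0.ne').trans hk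
    have hkG : v ^ k ∣ Nat.card G := hk.trans (card_subgroup_dvd_card _)
    rcases hX.2 v hv hvX with h | h
    · subst h
      exact Dvd.dvd.mul_right ((S s).pow_dvd_card_of_pow_dvd_card hkG) _
    · rw [Set.mem_singleton_iff] at h
      subst h
      exact Dvd.dvd.mul_left ((S t).pow_dvd_card_of_pow_dvd_card hkG) _
  have key : ∀ U V : Subgroup G, U ≤ X₁ → V ≤ X₁ → (Nat.card U).Coprime (Nat.card V) →
      Nat.card X₁ ∣ Nat.card U * Nat.card V → (U : Set G) * (V : Set G) = X₁ := by
    intro U V hU hV hUV hd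
    refine Set.eq_of_subset_of_ncard_le ?_ ?_
    · rintro _ ⟨u, hu, v, hv, rfl⟩
      exact X₁.mul_mem (hU hu) (hV hv)
    · have hinj : Function.Injective (fun x : U × V => (x.1 : G) * x.2) :=
        mul_injective_of_disjoint (disjoint_iff.mpr (inf_eq_bot_of_coprime hUV))
      have hle : Nat.card (U × V) ≤ Nat.card ((U : Set G) * (V : Set G) : Set G) :=
        Nat.card_le_card_of_injective
          (fun x : U × V => (⟨(x.1 : G) * x.2, Set.mul_mem_mul x.1.2 x.2.2⟩ :
            ((U : Set G) * (V : Set G) : Set G)))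
          (fun x y hxy => hinj (congrArg Subtype.val hxy))
      rw [Nat.card_prod] at hle
      show Nat.card X₁ ≤ Nat.card ((U : Set G) * (V : Set G) : Set G)
      exact (Nat.le_of_dvd (Nat.mul_pos Nat.card_pos Nat.card_pos) hd).trans hle
  exact (key _ _ hsX₁ htX₁ hcop hdvd).trans
    (key _ _ htX₁ hsX₁ hcop.symm (hdvd.trans (dvd_of_eq (mul_comm _ _)))).symm

end Cfg

end Cfsg.Agent.Lib.AbFixed69
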