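import Cfsg.Agent.Lib.AbFixed69.Setup
import Cfsg.Agent.Lib.Bender.Uniqueness
import Cfsg.Agent.Lib.Ward.Reduction
import Cfsg.Agent.Lib.Transfer.Criteria

/-!
# Invariant subgroups for two primes
-/

set_option autoImplicit false

namespace Cfsg.Agent.Lib.AbFixed69

open Subgroup Cfsg.Agent.Lib.Coprime
open scoped commutatorElement

universe u

variable {Γ : Type u} [Group Γ] [Finite Γ]

/-- An `A`-invariant subgroup of `G` whose order involves only `p` and `r`. -/
def PR (A G : Subgroup Γ) (p r : ℕ) (X : Subgroup Γ) : Prop :=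
  Inv A G X ∧ Hall.IsPiNumber ({p, r} : Set ℕ) (Nat.card X)

/-- Some invariant `{p, r}`-subgroup contains both invariant Sylow subgroups. -/
def Linked (A G : Subgroup Γ) (p r : ℕ) : Prop :=
  ∃ X, PR A G p r X ∧ Cfg.syl A G p ≤ X ∧ Cfg.syl A G r ≤ X

/-- A maximal invariant `{p, r}`-subgroup. -/
def MaxPR (A G : Subgroup Γ) (p r : ℕ) (M : Subgroup Γ) : Prop :=
  PR A G p r M ∧ ∀ Y, PR A G p r Y → M ≤ Y → Y ≤ M

omit [Finite Γ] in
theorem PR.symm {A G X : Subgroup Γ} {p r : ℕ} (h : PR A G p r X) : PR A G r p X :=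
  ⟨h.1, Set.pair_comm r p ▸ h.2⟩

omit [Finite Γ] in
theorem Linked.symm {A G : Subgroup Γ} {p r : ℕ} (h : Linked A G p r) : Linked A G r p :=
  h.elim fun X hX => ⟨X, hX.1.symm, hX.2.2, hX.2.1⟩

omit [Finite Γ] in
theorem MaxPR.symm {A G M : Subgroup Γ} {p r : ℕ} (h : MaxPR A G p r M) : MaxPR A G r p M :=
  ⟨h.1.symm, fun Y hY hMY => h.2 Y hY.symm hMY⟩

omit [Finite Γ] in
theorem le_normalizer_pCoreOf (p : ℕ) (M : Subgroup Γ) :
    normalizer (M : Set Γ) ≤ normalizer (Cfsg.pCoreOf p M : Set Γ) := by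
  haveI := PSolvable.pCore_characteristic (p := p) (G := M)
  exact normalizer_le_normalizer_map_of_characteristic _

theorem isPGroup_pCoreOf (p : ℕ) (M : Subgroup Γ) : IsPGroup p (Cfsg.pCoreOf p M) :=
  PSolvable.pCore_isPGroup.map _

theorem le_pCoreOf {p : ℕ} {M N : Subgroup Γ} (hN : N ≤ M) (hn : M ≤ normalizer (N : Set Γ))
    (hp : IsPGroup p N) : N ≤ Cfsg.pCoreOf p M := by
  haveI : (N.subgroupOf M).Normal := normal_subgroupOf_of_le_normalizer hn
  rw [← map_subgroupOf_eq_of_le hN]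
  exact Subgroup.map_mono (PSolvable.le_pCore (hp.of_equiv (subgroupOfEquivOfLe hN).symm))

/-- The centre of a subgroup, inside the ambient group. -/
def zOf (W : Subgroup Γ) : Subgroup Γ := W ⊓ centralizer (W : Set Γ)

theorem zOf_ne_bot {p : ℕ} [Fact p.Prime] {W : Subgroup Γ} (hW : IsPGroup p W) (h : W ≠ ⊥) :
    zOf W ≠ ⊥ := by
  haveI : Nontrivial W := (nontrivial_iff_ne_bot W).mpr h
  haveI := hW.center_nontrivial
  obtain ⟨z, hz⟩ := exists_ne (1 : center W)
  intro e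
  have : ((z : W) : Γ) ∈ zOf W := ⟨(z : W).2, mem_centralizer_iff.mpr fun w hw =>
    congrArg Subtype.val (mem_center_iff.mp z.2 ⟨w, hw⟩)⟩
  rw [e, mem_bot] at this
  exact hz (Subtype.ext (Subtype.ext this))

omit [Finite Γ] in
theorem le_centralizer_zOf (W : Subgroup Γ) : W ≤ centralizer (zOf W : Set Γ) :=
  centralizer_comm inf_le_right

omit [Finite Γ] in
theorem normalizer_le_normalizer_zOf (W : Subgroup Γ) :
    normalizer (W : Set Γ) ≤ normalizer (zOf W : Set Γ) :=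
  normalizer_inf_le le_rfl (le_normalizer_centralizer_of_le le_rfl)

namespace Cfg

variable {q : ℕ} {A G : Subgroup Γ} (hc : Cfg q A G) {p r : ℕ} [Fact p.Prime] [Fact r.Prime]
include hc

theorem inv_zOf {W : Subgroup Γ} (hW : Inv A G W) : Inv A G (zOf W) :=
  ⟨inf_le_left.trans hW.1, hW.2.trans (normalizer_le_normalizer_zOf W)⟩

theorem inv_pCoreOf {M : Subgroup Γ} (hM : Inv A G M) (s : ℕ) : Inv A G (Cfsg.pCoreOf s M) :=
  ⟨(map_subtype_le _).trans hM.1, hM.2.trans (le_normalizer_pCoreOf s M)⟩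

theorem pr_of_isPGroup {X : Subgroup Γ} (hX : Inv A G X) (hp : IsPGroup p X) : PR A G p r X := by
  refine ⟨hX, ?_⟩
  obtain ⟨k, hk⟩ := hp.exists_card_eq
  rw [hk]
  exact Hall.isPiNumber_pow_prime Fact.out (Set.mem_insert p _) k

theorem le_of_pr {X L : Subgroup Γ} (hX : PR A G p r X) (h1 : X ⊓ syl A G p ≤ L)
    (h2 : X ⊓ syl A G r ≤ L) : X ≤ L :=
  hc.le_of_syl hX.1 fun s hs hd => by
    rcases hX.2 s hs hd with rfl | rfl <;> assumption

theorem pr_ne (hl : ¬ Linked A G p r) {X : Subgroup Γ} (hX : PR A G p r X) : X ≠ G := by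
  rintro rfl
  exact hl ⟨_, hX, (hc.syl_inv p).1, (hc.syl_inv r).1⟩

/-- The invariant Hall subgroup of a proper invariant subgroup. -/
theorem exists_hall {Y : Subgroup Γ} (hY : Inv A G Y) (hne : Y ≠ G) :
    ∃ X, PR A G p r X ∧ X ≤ Y ∧ Y ⊓ syl A G p ≤ X ∧ Y ⊓ syl A G r ≤ X := by
  obtain ⟨X, hX, hXA⟩ := Hall.exists_invariant_hall A Y hY.2 (hc.cop hY.1)
    (hc.hsolv Y hY.1 hY.2 hne) ({p, r} : Set ℕ)
  rw [Hall.isPiHallOf_iff] at hX
  obtain ⟨hXY, hXπ, hXi⟩ := hX
  refine ⟨X, ⟨⟨hXY.trans hY.1, hXA⟩, hXπ⟩, hXY, ?_⟩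
  suffices h : ∀ s : ℕ, s.Prime → s ∈ ({p, r} : Set ℕ) → Y ⊓ syl A G s ≤ X from
    ⟨h p Fact.out (Set.mem_insert p _), h r Fact.out (Set.mem_insert_of_mem p rfl)⟩
  intro s hs hsmem
  haveI := Fact.mk hs
  obtain ⟨k, hk⟩ := IsPGroup.iff_card.mp ((hc.syl_isPGroup s).to_le (inf_le_right (a := Y)))
  have hd : s ^ k ∣ Nat.card X := by
    refine (Hall.isPiNumber_pow_prime hs hsmem k).dvd_of_dvd_mul hXi (k := X.relIndex Y) ?_
    rw [← hk]
    refine (card_dvd_of_le inf_le_left).trans (dvd_of_eq ?_)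
    rw [relIndex, ← card_mul_index (X.subgroupOf Y),
      Nat.card_congr (subgroupOfEquivOfLe hXY).toEquiv]
  have h2 := hc.pow_dvd_card_inf_syl ⟨hXY.trans hY.1, hXA⟩ hd
  rw [← hk] at h2
  have he : X ⊓ syl A G s = Y ⊓ syl A G s :=
    eq_of_le_of_card_ge (inf_le_inf_right _ hXY) (Nat.le_of_dvd Nat.card_pos h2)
  exact he ▸ inf_le_left

theorem exists_max {X : Subgroup Γ} (hX : PR A G p r X) : ∃ M, MaxPR A G p r M ∧ X ≤ M := by
  obtain ⟨M, ⟨hXM, hM⟩, hmax⟩ := Set.Finite.exists_maximal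
    (s := {Y : Subgroup Γ | X ≤ Y ∧ PR A G p r Y}) (Set.toFinite _) ⟨X, le_rfl, hX⟩
  exact ⟨M, ⟨hM, fun Y hY hMY => hmax ⟨hXM.trans hMY, hY⟩ hMY⟩, hXM⟩

/-- Every proper invariant subgroup has a maximal `{p, r}`-subgroup over its two Sylow parts. -/
theorem exists_max_over {Y : Subgroup Γ} (hY : Inv A G Y) (hne : Y ≠ G) :
    ∃ M, MaxPR A G p r M ∧ Y ⊓ syl A G p ≤ M ∧ Y ⊓ syl A G r ≤ M := by
  obtain ⟨X, hX, -, h1, h2⟩ := hc.exists_hall (p := p) (r := r) hY hne
  obtain ⟨M, hM, hXM⟩ := hc.exists_max hX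
  exact ⟨M, hM, h1.trans hXM, h2.trans hXM⟩

theorem normalizer_inf_le_max {M X : Subgroup Γ} (hM : MaxPR A G p r M) (hX : Inv A G X)
    (h0 : X ≠ ⊥) (h1 : X ≠ G) (hMX : M ≤ normalizer (X : Set Γ)) :
    syl A G p ⊓ normalizer (X : Set Γ) ≤ M ∧ syl A G r ⊓ normalizer (X : Set Γ) ≤ M := by
  obtain ⟨Z, hZ, -, hp, hr⟩ := hc.exists_hall (p := p) (r := r) (hc.inv_normalizer hX)
    (hc.normalizer_ne hX h0 h1)
  have hle : M ≤ Z := by
    refine hc.le_of_pr hM.1 ?_ ?_
    · exact (inf_le_inf_right _ (le_inf hM.1.1.1 hMX)).trans hp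
    · exact (inf_le_inf_right _ (le_inf hM.1.1.1 hMX)).trans hr
  have hZM := hM.2 Z hZ hle
  exact ⟨((le_inf (le_inf (inf_le_left.trans (hc.syl_inv p).1) inf_le_right) inf_le_left).trans
      hp).trans hZM,
    ((le_inf (le_inf (inf_le_left.trans (hc.syl_inv r).1) inf_le_right) inf_le_left).trans
      hr).trans hZM⟩

omit [Fact r.Prime] in
theorem coreOf_le {M : Subgroup Γ} (hM : PR A G p r M) :
    Bender.coreOf p M ≤ Cfsg.pCoreOf r M := by
  refine le_pCoreOf (map_subtype_le _) (Bender.le_normalizer_coreOf p M) ?_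
  have h1 : (Nat.card (Bender.coreOf p M)).Coprime p := by
    rw [Bender.coreOf, card_map_of_injective M.subtype_injective]
    exact PSolvable.pPrimeCore_coprime
  refine IsPGroup.of_card (n := (Nat.card (Bender.coreOf p M)).primeFactorsList.length)
    (Nat.eq_prime_pow_of_unique_prime_dvd Nat.card_pos.ne' fun {s} hs hd => ?_)
  rcases hM.2 s hs (hd.trans (card_dvd_of_le (map_subtype_le _))) with rfl | h
  · exact absurd (Nat.eq_one_of_dvd_coprimes h1 hd dvd_rfl) hs.ne_one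
  · exact h

/-- A subgroup centralising `D`, and normalised by the centraliser of `D`, lies in the core. -/
theorem le_core_of_centralizes (hl : ¬ Linked A G p r) (hpr : p ≠ r) {X D Y : Subgroup Γ}
    (hX : PR A G p r X) (hDX : D ≤ X) (hD : IsPGroup p D) (hYX : Y ≤ X) (hY : IsPGroup r Y)
    (hYD : Y ≤ centralizer (D : Set Γ))
    (hCY : X ⊓ centralizer (D : Set Γ) ≤ normalizer (Y : Set Γ)) :
    Y ≤ Cfsg.pCoreOf r X := by
  refine le_trans ?_ (hc.coreOf_le hX)
  refine Bender.le_coreOf (hc.hsolv X hX.1.1 hX.1.2 (hc.pr_ne hl hX)) hDX hD hYX ?_ hYD hCY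
  obtain ⟨k, hk⟩ := hY.exists_card_eq
  rw [hk]
  exact Nat.Coprime.pow_left k ((Nat.coprime_primes Fact.out Fact.out).mpr hpr.symm)

theorem fitting_le {M : Subgroup Γ} (hM : PR A G p r M) (hr : Cfsg.pCoreOf r M = ⊥) :
    fittingSubgroup M ≤ pCore p M := by
  rw [Fitting.fittingSubgroup_eq_iSup_pCore]
  refine iSup_le fun s => ?_
  by_cases hsp : (s : ℕ) = p
  · rw [hsp]
  haveI := Fact.mk s.2
  obtain ⟨k, hk⟩ := IsPGroup.iff_card.mp (PSolvable.pCore_isPGroup (p := (s : ℕ)) (G := M))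
  rcases Nat.eq_zero_or_pos k with rfl | hk0
  · rw [pow_zero] at hk
    rw [eq_bot_of_card_eq _ hk]
    exact bot_le
  have hd : (s : ℕ) ∣ Nat.card M := by
    refine (dvd_pow_self (s : ℕ) hk0.ne').trans (hk ▸ ?_)
    exact card_subgroup_dvd_card _
  rcases hM.2 s s.2 hd with h | h
  · exact absurd h hsp
  · have h' : pCore (s : ℕ) M = ⊥ := by
      rw [Set.mem_singleton_iff.mp h]
      exact (map_eq_bot_iff_of_injective _ M.subtype_injective).mp hr
    rw [h']
    exact bot_le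

/-- If `O_r(M) = 1` then the invariant Sylow `p`-subgroup is normal in `M`. -/
theorem le_normalizer_of_core_eq_bot (hl : ¬ Linked A G p r) {M : Subgroup Γ}
    (hM : PR A G p r M) (hr : Cfsg.pCoreOf r M = ⊥) :
    M ≤ normalizer ((M ⊓ syl A G p : Subgroup Γ) : Set Γ) := by
  haveI := hc.hsolv M hM.1.1 hM.1.2 (hc.pr_ne hl hM)
  have hFW := hc.fitting_le hM hr
  -- the nilpotent residual lies in the Fitting subgroup
  set Γ₁ : Subgroup Γ := M ⊔ A with hΓ₁
  have hMA : M ≤ Γ₁ := le_sup_left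
  have hAA : A ≤ Γ₁ := le_sup_right
  haveI hKn : (M.subgroupOf Γ₁).Normal :=
    normal_subgroupOf_of_le_normalizer (sup_le le_normalizer hM.1.2)
  obtain ⟨k, hk⟩ : ∃ k, (⊤ : Subgroup M).lowerCentralSeries (k + 1) =
      (⊤ : Subgroup M).lowerCentralSeries k := by
    by_contra hno
    push Not at hno
    have hanti : StrictAnti (fun k => (⊤ : Subgroup M).lowerCentralSeries k) :=
      strictAnti_nat_of_succ_lt fun k =>
        lt_of_le_of_ne (Subgroup.lowerCentralSeries_antitone _ k.le_succ) (hno k)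
    exact not_injective_infinite_finite _ hanti.injective
  set ι : M →* Γ₁ := inclusion hMA with hι
  have hιi : Function.Injective ι := inclusion_injective hMA
  have hrange : ι.range = M.subgroupOf Γ₁ := inclusion_range hMA
  have hmap : ∀ n, (M.subgroupOf Γ₁).lowerCentralSeries n =
      ((⊤ : Subgroup M).lowerCentralSeries n).map ι := fun n => by
    rw [map_lowerCentralSeries, ← hrange, MonoidHom.range_eq_map]
  have hstat : ⁅(M.subgroupOf Γ₁).lowerCentralSeries k, M.subgroupOf Γ₁⁆ =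
      (M.subgroupOf Γ₁).lowerCentralSeries k := by
    rw [← Subgroup.lowerCentralSeries_succ, hmap, hmap, hk]
  have hcA : Nat.card (A.subgroupOf Γ₁) = q ^ 2 := by
    rw [Nat.card_congr (subgroupOfEquivOfLe hAA).toEquiv, hc.hA]
  have hAel : Cfsg.IsElementaryAbelian q (A.subgroupOf Γ₁) :=
    ⟨⟨⟨fun x y => Subtype.ext (Subtype.ext (hc.commute x.2 y.2).eq)⟩⟩,
      fun a ha => Subtype.ext (hc.hpow a ha)⟩
  have hfp : M.subgroupOf Γ₁ ⊓ centralizer (A.subgroupOf Γ₁ : Set Γ₁) = ⊥ := by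
    rw [eq_bot_iff]
    rintro x ⟨hx, hxc⟩
    have : (x : Γ) ∈ G ⊓ centralizer (A : Set Γ) := ⟨hM.1.1 hx, mem_centralizer_iff.mpr
      fun a ha => congrArg Subtype.val (mem_centralizer_iff.mp hxc ⟨a, hAA ha⟩ ha)⟩
    rw [hc.hfpf, mem_bot] at this
    exact mem_bot.mpr (Subtype.ext this)
  haveI hsolv : Group.IsSolvable (M.subgroupOf Γ₁) :=
    Group.isSolvable_of_isSolvable_injective (f := (subgroupOfEquivOfLe hMA).toMonoidHom)
      (subgroupOfEquivOfLe hMA).injective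
  have hnil := Ward.isNilpotent_lowerCentralSeries hc.hq _ Γ₁ (A.subgroupOf Γ₁) _ hKn rfl hsolv
    hAel hcA hfp k hstat
  rw [hmap] at hnil
  haveI := hnil
  have hnil' : Group.IsNilpotent ((⊤ : Subgroup M).lowerCentralSeries k) :=
    Group.nilpotent_of_mulEquiv (equivMapOfInjective _ ι hιi).symm
  have hle : (⊤ : Subgroup M).lowerCentralSeries k ≤ pCore p M :=
    le_trans (le_sSup (show ((⊤ : Subgroup M).lowerCentralSeries k).Normal ∧
      Group.IsNilpotent ((⊤ : Subgroup M).lowerCentralSeries k) from ⟨inferInstance, hnil'⟩)) hFW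
  haveI hWc := PSolvable.pCore_characteristic (p := p) (G := M)
  set g := QuotientGroup.mk' (pCore p M) with hg
  haveI : Group.IsNilpotent (M ⧸ pCore p M) := by
    refine Subgroup.nilpotent_iff_lowerCentralSeries.mpr ⟨k, ?_⟩
    rw [← map_top_of_surjective g (QuotientGroup.mk'_surjective _), ← map_lowerCentralSeries,
      Subgroup.map_eq_bot_iff, QuotientGroup.ker_mk']
    exact hle
  obtain ⟨S, hS, hSe⟩ : ∃ S : Sylow p M, pCore p M ≤ (S : Subgroup M) ∧
      (S : Subgroup M) = (M ⊓ syl A G p).subgroupOf M := by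
    obtain ⟨S₀, hS₀, hS₀A⟩ : ∃ S : Sylow p M, True ∧
        A ≤ normalizer (((S : Subgroup M).map M.subtype : Subgroup Γ) : Set Γ) := by
      obtain ⟨S, hS⟩ := exists_invariant_sylow (p := p) hM.1.2 (hc.cop hM.1.1) (Or.inl hc.hAsolv)
      exact ⟨S, trivial, hS⟩
    refine ⟨S₀, PSolvable.pCore_le_sylow S₀, ?_⟩
    have h1 : (S₀ : Subgroup M).map M.subtype ≤ M ⊓ syl A G p := le_inf (map_subtype_le _)
      (le_syl ⟨(map_subtype_le _).trans hM.1.1, hS₀A⟩ (S₀.2.map _))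
    have h2 : (M ⊓ syl A G p).subgroupOf M = (S₀ : Subgroup M) :=
      S₀.3 ((hc.syl_isPGroup p).to_le inf_le_right).comap_subtype fun x hx =>
        h1 ⟨x, hx, rfl⟩
    exact h2.symm
  have hnS : (S : Subgroup M).Normal := by
    have hcm : (S : Subgroup M) = ((S : Subgroup M).map g).comap g := by
      rw [comap_map_eq, QuotientGroup.ker_mk', sup_eq_left.mpr hS]
    rw [hcm]
    refine Subgroup.Normal.comap ?_ g
    exact (S.mapSurjective (QuotientGroup.mk'_surjective (pCore p M))).normal_of_normalizerCondition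
      Group.normalizerCondition_of_isNilpotent
  rw [hSe] at hnS
  exact (normal_subgroupOf_iff_le_normalizer inf_le_left).mp hnS

end Cfg

end Cfsg.Agent.Lib.AbFixed69
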