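import Cfsg.Agent.Lib.AbFixed69.Frob
import Cfsg.Agent.Lib.Coprime.Generation
import Cfsg.Agent.Lib.Hall.Invariant

/-!
# A minimal configuration: abelian centralisers of a noncyclic group of order `q²`
-/

set_option autoImplicit false

namespace Cfsg.Agent.Lib.AbFixed69

open Subgroup Cfsg.Agent.Lib.Coprime
open scoped commutatorElement

universe u

variable {Γ : Type u} [Group Γ] [Finite Γ]

/-- A minimal counterexample. -/
structure Cfg (q : ℕ) (A G : Subgroup Γ) : Prop where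
  hq : q.Prime
  hA : Nat.card A = q ^ 2
  hpow : ∀ a ∈ A, a ^ q = 1
  hcomm : IsMulCommutative A
  hnc : ¬ IsCyclic A
  hAG : A ≤ normalizer (G : Set Γ)
  hcop : (Nat.card A).Coprime (Nat.card G)
  hfpf : G ⊓ centralizer (A : Set Γ) = ⊥
  hab : ∀ a ∈ A, a ≠ 1 → ∀ x ∈ G ⊓ centralizer {a}, ∀ y ∈ G ⊓ centralizer {a}, x * y = y * x
  hsolv : ∀ M : Subgroup Γ, M ≤ G → A ≤ normalizer (M : Set Γ) → M ≠ G → Group.IsSolvable M
  hmin : ∀ N : Subgroup Γ, N ≤ G → G ≤ normalizer (N : Set Γ) → A ≤ normalizer (N : Set Γ) →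
    N = ⊥ ∨ N = G
  hns : ¬ Group.IsSolvable G

/-- An `A`-invariant subgroup of `G`. -/
def Inv (A G X : Subgroup Γ) : Prop := X ≤ G ∧ A ≤ normalizer (X : Set Γ)

omit [Finite Γ] in
theorem normalizer_inf_le {X Y L : Subgroup Γ} (hX : L ≤ normalizer (X : Set Γ))
    (hY : L ≤ normalizer (Y : Set Γ)) : L ≤ normalizer ((X ⊓ Y : Subgroup Γ) : Set Γ) :=
  fun g hg => mem_normalizer_iff.mpr fun y =>
    and_congr (mem_normalizer_iff.mp (hX hg) y) (mem_normalizer_iff.mp (hY hg) y)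

omit [Finite Γ] in
theorem le_normalizer_normalizer {X L : Subgroup Γ} (hX : L ≤ normalizer (X : Set Γ)) :
    L ≤ normalizer (normalizer (X : Set Γ) : Set Γ) := hX.trans le_normalizer

omit [Finite Γ] in
theorem le_normalizer_centralizer_of_le {X L : Subgroup Γ} (hX : L ≤ normalizer (X : Set Γ)) :
    L ≤ normalizer (centralizer (X : Set Γ) : Set Γ) := by
  refine le_normalizer_of_conj_mem fun g hg c hc => mem_centralizer_iff.mpr fun x hx => ?_
  have h := mem_centralizer_iff.mp hc (g⁻¹ * x * g) (conj_mem_of_le_normalizer' hX hg hx)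
  calc x * (g * c * g⁻¹) = g * (g⁻¹ * x * g * c) * g⁻¹ := by group
    _ = g * (c * (g⁻¹ * x * g)) * g⁻¹ := by rw [h]
    _ = g * c * g⁻¹ * x := by group

omit [Finite Γ] in
theorem le_normalizer_centralizer_singleton {a : Γ} {L : Subgroup Γ}
    (h : ∀ g ∈ L, Commute g a) : L ≤ normalizer (centralizer {a} : Set Γ) := fun g hg =>
  le_normalizer (mem_centralizer_singleton_iff.mpr (h g hg).eq)

omit [Finite Γ] in
theorem le_normalizer_sup {X Y L : Subgroup Γ} (hX : L ≤ normalizer (X : Set Γ))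
    (hY : L ≤ normalizer (Y : Set Γ)) : L ≤ normalizer ((X ⊔ Y : Subgroup Γ) : Set Γ) := by
  refine le_normalizer_of_conj_mem fun g hg x hx => ?_
  have h : (X ⊔ Y).map (MulAut.conj g).toMonoidHom ≤ X ⊔ Y := by
    rw [Subgroup.map_sup]
    refine sup_le_sup ?_ ?_
    · rintro _ ⟨y, hy, rfl⟩; exact conj_mem_of_le_normalizer hX hg hy
    · rintro _ ⟨y, hy, rfl⟩; exact conj_mem_of_le_normalizer hY hg hy
  exact h ⟨x, hx, rfl⟩

omit [Finite Γ] in
theorem centralizer_zpowers {a : Γ} : centralizer (zpowers a : Set Γ) = centralizer {a} := by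
  rw [zpowers_eq_closure, centralizer_closure]

omit [Finite Γ] in
theorem mem_centralizer_of_commute {X Y : Subgroup Γ} (h : ∀ x ∈ X, ∀ y ∈ Y, x * y = y * x) :
    Y ≤ centralizer (X : Set Γ) := fun y hy => mem_centralizer_iff.mpr fun x hx => h x hx y hy

omit [Finite Γ] in
theorem centralizer_comm {X Y : Subgroup Γ} (h : X ≤ centralizer (Y : Set Γ)) :
    Y ≤ centralizer (X : Set Γ) := fun y hy =>
  mem_centralizer_iff.mpr fun _ hx => (mem_centralizer_iff.mp (h hx) y hy).symm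

namespace Cfg

variable {q : ℕ} {A G : Subgroup Γ} (hc : Cfg q A G)
include hc

theorem hAsolv : Group.IsSolvable A :=
  Group.isSolvable_of_comm fun x y => hc.hcomm.is_comm.comm x y

theorem commute {a b : Γ} (ha : a ∈ A) (hb : b ∈ A) : Commute a b :=
  congrArg Subtype.val (hc.hcomm.is_comm.comm ⟨a, ha⟩ ⟨b, hb⟩)

theorem cop {X : Subgroup Γ} (hX : X ≤ G) : (Nat.card A).Coprime (Nat.card X) :=
  coprime_of_le_right hX hc.hcop

theorem q_cop {X : Subgroup Γ} (hX : X ≤ G) : q.Coprime (Nat.card X) :=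
  Nat.Coprime.coprime_dvd_left (dvd_pow_self q two_ne_zero) (hc.hA ▸ hc.cop hX)

theorem inv_top : Inv A G G := ⟨le_rfl, hc.hAG⟩

theorem inv_bot : Inv A G (⊥ : Subgroup Γ) := ⟨bot_le, by
  intro g _; rw [mem_normalizer_iff]; intro x; simp [mem_bot]⟩

theorem inv_inf {X Y : Subgroup Γ} (hX : Inv A G X) (hY : A ≤ normalizer (Y : Set Γ)) :
    Inv A G (X ⊓ Y) := ⟨inf_le_left.trans hX.1, normalizer_inf_le hX.2 hY⟩

theorem inv_K {a : Γ} (ha : a ∈ A) : A ≤ normalizer (centralizer {a} : Set Γ) :=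
  le_normalizer_centralizer_singleton fun _ hg => hc.commute hg ha

theorem inv_centralizer {X : Subgroup Γ} (hX : Inv A G X) :
    Inv A G (G ⊓ centralizer (X : Set Γ)) :=
  hc.inv_inf hc.inv_top (le_normalizer_centralizer_of_le hX.2)

theorem inv_normalizer {X : Subgroup Γ} (hX : Inv A G X) :
    Inv A G (G ⊓ normalizer (X : Set Γ)) :=
  hc.inv_inf hc.inv_top (le_normalizer_normalizer hX.2)

theorem normalizer_ne {X : Subgroup Γ} (hX : Inv A G X) (h0 : X ≠ ⊥) (h1 : X ≠ G) :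
    G ⊓ normalizer (X : Set Γ) ≠ G := fun h =>
  (hc.hmin X hX.1 (h.symm.le.trans inf_le_right) hX.2).elim h0 h1

theorem centralizer_ne {X : Subgroup Γ} (hX : Inv A G X) (h0 : X ≠ ⊥) (h1 : X ≠ G) :
    G ⊓ centralizer (X : Set Γ) ≠ G := fun h =>
  hc.normalizer_ne hX h0 h1 (le_antisymm inf_le_left
    (le_inf le_rfl ((h.symm.le.trans inf_le_right).trans (centralizer_le_normalizer (X : Set Γ)))))

theorem ne_of_isPGroup {X : Subgroup Γ} {p : ℕ} [Fact p.Prime] (hp : IsPGroup p X) : X ≠ G := by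
  rintro rfl
  haveI := hp.isNilpotent
  exact hc.hns inferInstance

/-- Generation by the centralisers of the non-identity elements of `A`. -/
theorem le_of_fixed {X L : Subgroup Γ} (hX : Inv A G X)
    (h : ∀ a ∈ A, a ≠ 1 → X ⊓ centralizer {a} ≤ L) : X ≤ L := by
  haveI := hc.hcomm
  exact le_of_noncyclic hc.hnc hX.2 (hc.cop hX.1) h

theorem exists_fixed_notLE {X L : Subgroup Γ} (hX : Inv A G X) (h : ¬ X ≤ L) :
    ∃ a ∈ A, a ≠ 1 ∧ ¬ X ⊓ centralizer {a} ≤ L := by
  by_contra hno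
  exact h (hc.le_of_fixed hX fun a ha ha1 => by
    by_contra h'; exact hno ⟨a, ha, ha1, h'⟩)

theorem exists_fixed_ne_bot {X : Subgroup Γ} (hX : Inv A G X) (h : X ≠ ⊥) :
    ∃ a ∈ A, a ≠ 1 ∧ X ⊓ centralizer {a} ≠ ⊥ := by
  obtain ⟨a, ha, ha1, h'⟩ := hc.exists_fixed_notLE hX (L := ⊥) (fun h' => h (le_bot_iff.mp h'))
  exact ⟨a, ha, ha1, fun e => h' e.le⟩

theorem closure_pair {a b : Γ} (ha : a ∈ A) (hb : b ∈ A) (hb1 : b ≠ 1) (hab : a ∉ zpowers b) :
    closure ({a, b} : Set Γ) = A := by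
  haveI := Fact.mk hc.hq
  have hle : closure ({a, b} : Set Γ) ≤ A := (closure_le A).mpr (by
    rintro y (rfl | rfl) <;> assumption)
  have hbq : orderOf b = q := orderOf_eq_prime (hc.hpow b hb) hb1
  have hlt : zpowers b < closure ({a, b} : Set Γ) := by
    refine lt_of_le_of_ne (zpowers_le.mpr (subset_closure (Or.inr rfl))) fun e => hab ?_
    rw [e]; exact subset_closure (Or.inl rfl)
  obtain ⟨k, hk, hke⟩ := (Nat.dvd_prime_pow hc.hq).mp (hc.hA ▸ card_dvd_of_le hle)
  have h2 : q < Nat.card (closure ({a, b} : Set Γ)) := by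
    have h3 : Nat.card (zpowers b) < Nat.card (closure ({a, b} : Set Γ)) := by
      by_contra hle'
      exact hlt.ne (eq_of_le_of_card_ge hlt.le (not_lt.mp hle'))
    rwa [Nat.card_zpowers, hbq] at h3
  refine eq_of_le_of_card_ge hle ?_
  rw [hc.hA, hke]
  rcases (show k = 0 ∨ k = 1 ∨ k = 2 by omega) with rfl | rfl | rfl
  · rw [hke, pow_zero] at h2; exact absurd h2 (by have := hc.hq.two_le; omega)
  · rw [hke, pow_one] at h2; exact absurd h2 (lt_irrefl q)
  · exact le_rfl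

/-- Two independent elements of `A` have no common fixed point. -/
theorem fixed_two {a b : Γ} (ha : a ∈ A) (hb : b ∈ A) (hb1 : b ≠ 1) (hab : a ∉ zpowers b) {x : Γ}
    (hx : x ∈ G) (hxa : x ∈ centralizer {a}) (hxb : x ∈ centralizer {b}) : x = 1 := by
  have hA' := hc.closure_pair ha hb hb1 hab
  have : x ∈ G ⊓ centralizer (A : Set Γ) := by
    refine ⟨hx, ?_⟩
    rw [← hA', centralizer_closure]
    refine mem_centralizer_iff.mpr ?_
    rintro y (rfl | rfl)
    · exact (mem_centralizer_singleton_iff.mp hxa).symm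
    · exact (mem_centralizer_singleton_iff.mp hxb).symm
  rw [hc.hfpf] at this
  exact mem_bot.mp this

theorem fixed_inter {a b : Γ} (ha : a ∈ A) (hb : b ∈ A) (hb1 : b ≠ 1) (hab : a ∉ zpowers b)
    {X : Subgroup Γ} (hX : X ≤ G) : X ⊓ centralizer {a} ⊓ centralizer {b} = ⊥ :=
  eq_bot_iff.mpr fun _ hx => mem_bot.mpr (hc.fixed_two ha hb hb1 hab (hX hx.1.1) hx.1.2 hx.2)

/-- Elements of `zpowers b` are fixed-point equivalent to `b`. -/
theorem centralizer_eq_of_mem {a b : Γ} (hb : b ∈ A) (ha1 : a ≠ 1) (ha : a ∈ zpowers b) :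
    centralizer {a} = centralizer {b} := by
  haveI := Fact.mk hc.hq
  have hbq : orderOf b ∣ q := orderOf_dvd_of_pow_eq_one (hc.hpow b hb)
  rw [← centralizer_zpowers, ← centralizer_zpowers]
  congr 2
  refine eq_of_le_of_card_ge (zpowers_le.mpr ha) ?_
  rw [Nat.card_zpowers, Nat.card_zpowers]
  have haq : orderOf a = q := orderOf_eq_prime
    (hc.hpow a (zpowers_le.mpr hb ha)) ha1
  rw [haq]
  exact Nat.le_of_dvd hc.hq.pos hbq

/-! ### The invariant Sylow subgroups -/

omit hc in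
/-- The largest `A`-invariant `r`-subgroup. -/
def syl (A G : Subgroup Γ) (r : ℕ) : Subgroup Γ :=
  sSup {X : Subgroup Γ | Inv A G X ∧ IsPGroup r X}

theorem exists_syl (r : ℕ) [Fact r.Prime] :
    ∃ S : Sylow r G, A ≤ normalizer (((S : Subgroup G).map G.subtype : Subgroup Γ) : Set Γ) ∧
      (S : Subgroup G).map G.subtype = syl A G r := by
  obtain ⟨S, hS⟩ := exists_invariant_sylow (p := r) hc.hAG hc.hcop (Or.inl hc.hAsolv)
  refine ⟨S, hS, le_antisymm (le_sSup ⟨⟨map_subtype_le _, hS⟩, S.2.map _⟩) ?_⟩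
  refine sSup_le fun X hX => ?_
  obtain ⟨c, hcm, hcu⟩ := exists_centralizer_conj_le hc.hAG hc.hcop (Or.inl hc.hAsolv) hS
    hX.1.1 hX.2 hX.1.2
  rw [hc.hfpf, mem_bot] at hcm
  intro x hx
  simpa [hcm] using hcu x hx

theorem syl_inv (r : ℕ) [Fact r.Prime] : Inv A G (syl A G r) := by
  obtain ⟨S, hS, e⟩ := hc.exists_syl r
  exact e ▸ ⟨map_subtype_le _, hS⟩

theorem syl_isPGroup (r : ℕ) [Fact r.Prime] : IsPGroup r (syl A G r) := by
  obtain ⟨S, -, e⟩ := hc.exists_syl r
  exact e ▸ S.2.map _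

omit hc in
theorem le_syl {r : ℕ} {X : Subgroup Γ} (hX : Inv A G X) (hr : IsPGroup r X) : X ≤ syl A G r :=
  le_sSup ⟨hX, hr⟩

theorem pow_dvd_card_inf_syl {r k : ℕ} [Fact r.Prime] {M : Subgroup Γ} (hM : Inv A G M)
    (h : r ^ k ∣ Nat.card M) : r ^ k ∣ Nat.card (M ⊓ syl A G r : Subgroup Γ) := by
  obtain ⟨S, hS⟩ := exists_invariant_sylow (p := r) hM.2 (hc.cop hM.1) (Or.inl hc.hAsolv)
  refine (S.pow_dvd_card_of_pow_dvd_card h).trans ?_
  rw [← card_map_of_injective M.subtype_injective]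
  exact card_dvd_of_le (le_inf (map_subtype_le _)
    (le_syl ⟨(map_subtype_le _).trans hM.1, hS⟩ (S.2.map _)))

/-- An `A`-invariant subgroup is generated by its invariant Sylow subgroups. -/
theorem le_of_syl {X L : Subgroup Γ} (hX : Inv A G X)
    (h : ∀ r : ℕ, r.Prime → r ∣ Nat.card X → X ⊓ syl A G r ≤ L) : X ≤ L := by
  have hdvd : Nat.card X ∣ Nat.card (X ⊓ L : Subgroup Γ) :=
    (Nat.dvd_iff_prime_pow_dvd_dvd _ _).mpr fun r e hr he => by
      haveI := Fact.mk hr
      rcases Nat.eq_zero_or_pos e with rfl | he0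
      · simp
      exact (hc.pow_dvd_card_inf_syl hX he).trans
        (card_dvd_of_le (le_inf inf_le_left (h r hr ((dvd_pow_self r he0.ne').trans he))))
  exact inf_eq_left.mp (eq_of_le_of_card_ge inf_le_left (Nat.le_of_dvd Nat.card_pos hdvd))

/-! ### Actions with a fixed-point-free element -/

/-- If `b` has no fixed points on `W`, then `[R, b]` centralises `W`. -/
theorem commutator_le_centralizer {b : Γ} (hb : b ∈ A) (hb1 : b ≠ 1) {r p : ℕ} [Fact r.Prime]
    [Fact p.Prime] (hrp : r ≠ p) {R : Subgroup Γ} (hR : Inv A G R) (hRr : IsPGroup r R) :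
    ∀ {W : Subgroup Γ}, Inv A G W → IsPGroup p W → R ≤ normalizer (W : Set Γ) →
      W ⊓ centralizer {b} = ⊥ → ⁅R, zpowers b⁆ ≤ centralizer (W : Set Γ) := by
  intro W
  induction W using WellFoundedLT.induction with
  | _ W IH =>
  intro hW hWp hRW hWb
  have hbA : zpowers b ≤ A := zpowers_le.mpr hb
  have hbR := hbA.trans hR.2
  by_cases htriv : R ≤ centralizer (W : Set Γ)
  · exact (commutator_le_of_le_normalizer hbR).trans htriv
  set C := R ⊓ centralizer (W : Set Γ) with hC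
  have hRC : R ≤ normalizer (C : Set Γ) :=
    normalizer_inf_le le_normalizer (le_normalizer_centralizer_of_le hRW)
  have hAC : A ≤ normalizer (C : Set Γ) :=
    normalizer_inf_le hR.2 (le_normalizer_centralizer_of_le hW.2)
  -- the preimage of the centre of `R / C`
  let Z : Subgroup Γ :=
    { carrier := {z | z ∈ R ∧ ∀ y ∈ R, ⁅y, z⁆ ∈ C}
      one_mem' := ⟨R.one_mem, fun y _ => by simp⟩
      mul_mem' := by
        rintro z z' ⟨hz, hz1⟩ ⟨hz', hz2⟩
        refine ⟨R.mul_mem hz hz', fun y hy => ?_⟩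
        rw [commutatorElement_mul_right_eq_mul_conj]
        simp only [SemiconjBy, mul_assoc] at *
        have := C.mul_mem (hz1 y hy) (conj_mem_of_le_normalizer hRC hz (hz2 y hy))
        simpa [mul_assoc] using this
      inv_mem' := by
        rintro z ⟨hz, hz1⟩
        refine ⟨R.inv_mem hz, fun y hy => ?_⟩
        have := conj_mem_of_le_normalizer hRC (R.inv_mem hz) (C.inv_mem (hz1 y hy))
        rw [show ⁅y, z⁻¹⁆ = z⁻¹ * ⁅y, z⁆⁻¹ * z⁻¹⁻¹ by simp only [commutatorElement_def]; group]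
        exact this }
  have hZR : Z ≤ R := fun z hz => hz.1
  have hZ : Inv A G Z := by
    refine ⟨hZR.trans hR.1, le_normalizer_of_conj_mem fun a ha z hz => ?_⟩
    refine ⟨conj_mem_of_le_normalizer hR.2 ha hz.1, fun y hy => ?_⟩
    have h := conj_mem_of_le_normalizer hAC ha
      (hz.2 (a⁻¹ * y * a) (conj_mem_of_le_normalizer' hR.2 ha hy))
    rw [show ⁅y, a * z * a⁻¹⁆ = a * ⁅a⁻¹ * y * a, z⁆ * a⁻¹ by
      simp only [commutatorElement_def]; group]
    exact h
  have hZC : ¬ Z ≤ C := by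
    intro hle
    haveI : (C.subgroupOf R).Normal := normal_subgroupOf_of_le_normalizer hRC
    haveI : Nontrivial (R ⧸ C.subgroupOf R) := by
      refine QuotientGroup.nontrivial_iff.mpr fun e => htriv ?_
      rw [subgroupOf_eq_top] at e
      exact e.trans inf_le_right
    haveI := (hRr.to_quotient (C.subgroupOf R)).center_nontrivial
    obtain ⟨⟨z, hz⟩, hz1⟩ := exists_ne (1 : center (R ⧸ C.subgroupOf R))
    obtain ⟨w, rfl⟩ := QuotientGroup.mk'_surjective _ z
    refine hz1 (Subtype.ext ((QuotientGroup.eq_one_iff w).mpr (hle ⟨w.2, fun y hy => ?_⟩)))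
    have h1 : (QuotientGroup.mk' (C.subgroupOf R)) ⁅(⟨y, hy⟩ : R), w⁆ = 1 := by
      rw [map_commutatorElement, commutatorElement_eq_one_iff_mul_comm]
      exact mem_center_iff.mp hz _
    have h2 : ⁅(⟨y, hy⟩ : R), w⁆ ∈ C.subgroupOf R := (QuotientGroup.eq_one_iff _).mp h1
    exact h2
  obtain ⟨a, ha, ha1, haC⟩ := hc.exists_fixed_notLE hZ hZC
  have hcop : (Nat.card R).Coprime (Nat.card W) := IsPGroup.coprime_card_of_ne (p₁ := r) (p₂ := p) hrp R W hRr hWp
  have hfix : ∀ e ∈ A, e ≠ 1 → e ∉ zpowers b → Z ⊓ centralizer {e} ≤ C := by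
    intro e he he1 heb
    refine le_inf (inf_le_left.trans hZR) (centralizer_comm ?_)
    haveI := hWp.isNilpotent
    have hsub : Z ⊓ centralizer {e} ≤ R := inf_le_left.trans hZR
    refine le_of_fixedPointFree hc.hq (hc.hpow b hb) inferInstance (hsub.trans hRW) (hW.2 hb)
      (normalizer_inf_le hZ.2 (hc.inv_K he) hb) ?_
      (hc.fixed_inter he hb hb1 heb hZ.1) (hcop.coprime_dvd_left (card_dvd_of_le hsub))
      (hc.q_cop hW.1) ?_ inf_le_right
    · exact le_normalizer_centralizer_of_le le_normalizer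
    · rw [hWb]; exact bot_le
  have hab : a ∈ zpowers b := by
    by_contra h
    exact haC (hfix a ha ha1 h)
  rw [hc.centralizer_eq_of_mem hb ha1 hab] at haC
  set S := Z ⊓ centralizer {b} with hS
  have hSR : S ≤ R := inf_le_left.trans hZR
  set W₀ := W ⊓ centralizer (S : Set Γ) with hW₀
  have hSA : A ≤ normalizer (S : Set Γ) := normalizer_inf_le hZ.2 (hc.inv_K hb)
  have hW0i : Inv A G W₀ := hc.inv_inf hW (le_normalizer_centralizer_of_le hSA)
  -- the actions of `R` and `S` on `W` commute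
  have hact : ∀ x ∈ R, ∀ s ∈ S, ∀ w ∈ W,
      x * (s * w * s⁻¹) * x⁻¹ = s * (x * w * x⁻¹) * s⁻¹ := by
    intro x hx s hs w hw
    have hk : ⁅x, s⁆ ∈ centralizer (W : Set Γ) := (hs.1.2 x hx).2
    have hu : s * (x * w * x⁻¹) * s⁻¹ ∈ W :=
      conj_mem_of_le_normalizer (hSR.trans hRW) hs (conj_mem_of_le_normalizer hRW hx hw)
    have h := mem_centralizer_iff.mp hk _ hu
    calc x * (s * w * s⁻¹) * x⁻¹ = ⁅x, s⁆ * (s * (x * w * x⁻¹) * s⁻¹) * ⁅x, s⁆⁻¹ := by
          simp only [commutatorElement_def]; group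
      _ = s * (x * w * x⁻¹) * s⁻¹ := by rw [← h, mul_inv_cancel_right]
  have hlt : W₀ < W := lt_of_le_of_ne inf_le_left fun e => haC
    (le_inf hSR (centralizer_comm (e.symm.le.trans inf_le_right)))
  have hRW0 : R ≤ normalizer (W₀ : Set Γ) := le_normalizer_of_conj_mem fun x hx w hw =>
    ⟨conj_mem_of_le_normalizer hRW hx hw.1, mem_centralizer_iff.mpr fun s hs => by
      have h := hact x hx s hs w hw.1
      rw [mem_centralizer_iff.mp hw.2 s hs, mul_inv_cancel_right] at h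
      exact (eq_mul_inv_iff_mul_eq.mp h).symm⟩
  have hW0D := IH W₀ hlt hW0i (hWp.to_le inf_le_left) hRW0
    (le_bot_iff.mp ((inf_le_inf_right _ inf_le_left).trans hWb.le))
  -- the elements whose commutators with `b` centralise `W`
  let L : Subgroup Γ :=
    { carrier := {x | x ∈ R ∧ ∀ y ∈ zpowers b, ⁅x, y⁆ ∈ C}
      one_mem' := ⟨R.one_mem, fun y _ => by simp⟩
      mul_mem' := by
        rintro x x' ⟨hx, hx1⟩ ⟨hx', hx2⟩
        refine ⟨R.mul_mem hx hx', fun y hy => ?_⟩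
        rw [commutatorElement_mul_left_eq_conj_mul]
        have := C.mul_mem (conj_mem_of_le_normalizer hRC hx (hx2 y hy)) (hx1 y hy)
        simpa [mul_assoc] using this
      inv_mem' := by
        rintro x ⟨hx, hx1⟩
        refine ⟨R.inv_mem hx, fun y hy => ?_⟩
        rw [show ⁅x⁻¹, y⁆ = x⁻¹ * ⁅x, y⁆⁻¹ * x⁻¹⁻¹ by simp only [commutatorElement_def]; group]
        exact conj_mem_of_le_normalizer hRC (R.inv_mem hx) (C.inv_mem (hx1 y hy)) }
  have hRL : R ≤ L := by
    refine hc.le_of_fixed hR fun d hd hd1 x hx => ⟨hx.1, fun y hy => ?_⟩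
    by_cases hdb : d ∈ zpowers b
    · have hxb : x ∈ centralizer (zpowers b : Set Γ) := by
        rw [centralizer_zpowers, ← hc.centralizer_eq_of_mem hb hd1 hdb]; exact hx.2
      rw [commutatorElement_eq_one_iff_mul_comm.mpr (mem_centralizer_iff.mp hxb y hy).symm]
      exact C.one_mem
    set T := R ⊓ centralizer {d} with hT
    have hxy : ⁅x, y⁆ ∈ T := by
      have hTA : A ≤ normalizer (T : Set Γ) := normalizer_inf_le hR.2 (hc.inv_K hd)
      exact (commutator_le_of_le_normalizer (hbA.trans hTA)) (commutator_mem_commutator hx hy)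
    set L₀ := W ⊓ centralizer (T : Set Γ) with hL₀
    have hSL0 : S ≤ normalizer (L₀ : Set Γ) := le_normalizer_of_conj_mem fun s hs w hw =>
      ⟨conj_mem_of_le_normalizer (hSR.trans hRW) hs hw.1, mem_centralizer_iff.mpr fun t ht => by
        have h := hact t ht.1 s hs w hw.1
        rw [mem_centralizer_iff.mp hw.2 t ht, mul_inv_cancel_right] at h
        exact mul_inv_eq_iff_eq_mul.mp h⟩
    haveI := hWp.isNilpotent
    have hWle : W ≤ L₀ ⊔ W₀ := by
      refine le_of_fixedPointFree hc.hq (hc.hpow d hd) inferInstance (hSR.trans hRW) (hW.2 hd)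
        (hSA hd) ?_ ?_ (hcop.coprime_dvd_left (card_dvd_of_le hSR))
        (hc.q_cop hW.1) (le_trans ?_ le_sup_left) le_sup_right
      · exact le_normalizer_sup hSL0 ((hSR.trans hRW0))
      · rw [hS, inf_assoc, inf_comm (centralizer {b}), ← inf_assoc]
        exact hc.fixed_inter hd hb hb1 hdb hZ.1
      · refine le_inf inf_le_left fun w hw => mem_centralizer_iff.mpr fun t ht => ?_
        exact hc.hab d hd hd1 t ⟨hR.1 ht.1, ht.2⟩ w ⟨hW.1 hw.1, hw.2⟩
    refine ⟨hxy.1, centralizer_comm (X := W) (Y := zpowers ⁅x, y⁆) ?_ (mem_zpowers _)⟩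
    refine hWle.trans (sup_le ?_ ?_)
    · exact inf_le_right.trans (centralizer_le (zpowers_le.mpr hxy))
    · exact centralizer_comm ((zpowers_le.mpr (commutator_mem_commutator hx.1 hy)).trans hW0D)
  exact (commutator_le.mpr fun x hx y hy => ((hRL hx).2 y hy).2)

end Cfg

end Cfsg.Agent.Lib.AbFixed69
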