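import Cfsg.Agent.Lib.AbFixed69.Main
import Cfsg.Agent.Lib.Coprime.Semidirect

/-!
# Abelian centralisers of a noncyclic group of order `q²` give solvability
-/

set_option autoImplicit false

namespace Cfsg.Agent.Lib.AbFixed69

open Subgroup Cfsg.Agent.Lib.Coprime
open scoped commutatorElement

universe u

theorem isSolvable_of_abelian_fixed {q : ℕ} (hq : q.Prime) :
    ∀ (n : ℕ) (Γ : Type u) [Group Γ] [Finite Γ] (A G : Subgroup Γ), Nat.card G ≤ n →
      Nat.card A = q ^ 2 → (∀ a ∈ A, a ^ q = 1) → IsMulCommutative A → ¬ IsCyclic A →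
      A ≤ normalizer (G : Set Γ) → (Nat.card A).Coprime (Nat.card G) →
      (∀ a ∈ A, a ≠ 1 → ∀ x ∈ G ⊓ centralizer {a}, ∀ y ∈ G ⊓ centralizer {a}, x * y = y * x) →
      Group.IsSolvable G := by
  intro n
  induction n using Nat.strong_induction_on with
  | _ n IH =>
  intro Γ _ _ A G hn hA hpow hcomm hnc hAG hcop hab
  classical
  haveI := hcomm
  by_contra hns
  have hsub : ∀ M : Subgroup Γ, M ≤ G → A ≤ normalizer (M : Set Γ) → M ≠ G →
      Group.IsSolvable M := fun M hMG hAM hne =>
    IH (Nat.card M) (lt_of_lt_of_le (by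
      by_contra hle
      exact hne (eq_of_le_of_card_ge hMG (not_lt.mp hle))) hn) Γ A M le_rfl hA hpow hcomm hnc hAM
      (coprime_of_le_right hMG hcop)
      fun a ha ha1 x hx y hy => hab a ha ha1 x ⟨hMG hx.1, hx.2⟩ y ⟨hMG hy.1, hy.2⟩
  have hAsolv : Group.IsSolvable A := Group.isSolvable_of_comm fun x y => hcomm.is_comm.comm x y
  -- no proper non-trivial invariant normal subgroup
  have hmin : ∀ N : Subgroup Γ, N ≤ G → G ≤ normalizer (N : Set Γ) →
      A ≤ normalizer (N : Set Γ) → N = ⊥ ∨ N = G := by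
    intro N hNG hGN hAN
    by_contra hno
    push Not at hno
    obtain ⟨hN0, hNne⟩ := hno
    set Γ₁ := normalizer (N : Set Γ)
    haveI : (N.subgroupOf Γ₁).Normal := normal_in_normalizer
    set f := QuotientGroup.mk' (N.subgroupOf Γ₁) with hf
    set A₁ := A.subgroupOf Γ₁
    set G₁ := G.subgroupOf Γ₁
    have hcA : Nat.card A₁ = q ^ 2 := by
      rw [Nat.card_congr (subgroupOfEquivOfLe hAN).toEquiv, hA]
    have hcG : Nat.card G₁ = Nat.card G := Nat.card_congr (subgroupOfEquivOfLe hGN).toEquiv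
    have hinj : Function.Injective (f.subgroupMap A₁) := by
      refine (injective_iff_map_eq_one _).mpr fun a ha => Subtype.ext (Subtype.ext ?_)
      have h0 : f (a : Γ₁) = 1 := congrArg Subtype.val ha
      have h1 : (a : Γ₁) ∈ N.subgroupOf Γ₁ := (QuotientGroup.eq_one_iff _).mp h0
      exact orderOf_eq_one_iff.mp (Nat.eq_one_of_dvd_coprimes hcop
        (A.orderOf_dvd_natCard a.2) (G.orderOf_dvd_natCard (hNG h1)))
    let e : A₁ ≃* A₁.map f := MulEquiv.ofBijective (f.subgroupMap A₁)
      ⟨hinj, f.subgroupMap_surjective A₁⟩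
    have hA' : Nat.card (A₁.map f) = q ^ 2 := (Nat.card_congr e.toEquiv).symm.trans hcA
    have hlt : Nat.card (G₁.map f) < Nat.card G := by
      have hle : (N.subgroupOf Γ₁).subgroupOf G₁ = (f.comp G₁.subtype).ker := by
        rw [← MonoidHom.comap_ker, QuotientGroup.ker_mk']; rfl
      have h2 : Nat.card (G₁.map f) = ((N.subgroupOf Γ₁).subgroupOf G₁).index := by
        rw [hle, index_ker, MonoidHom.range_comp, range_subtype]
      have h3 : 1 < Nat.card ((N.subgroupOf Γ₁).subgroupOf G₁) := by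
        have hsubG : N.subgroupOf Γ₁ ≤ G₁ := fun x hx => hNG hx
        rw [Nat.card_congr (subgroupOfEquivOfLe hsubG).toEquiv,
          Nat.card_congr (subgroupOfEquivOfLe (le_normalizer : N ≤ Γ₁)).toEquiv]
        exact one_lt_card_iff_ne_bot _ |>.mpr hN0
      rw [h2, ← hcG, ← card_mul_index ((N.subgroupOf Γ₁).subgroupOf G₁)]
      exact lt_mul_left (Nat.pos_of_ne_zero index_ne_zero_of_finite) h3
    haveI hNs : Group.IsSolvable N := hsub N hNG hAN hNne
    have hq1 : Group.IsSolvable (G₁.map f) := by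
      refine IH (Nat.card (G₁.map f)) (lt_of_lt_of_le hlt hn) _ (A₁.map f) (G₁.map f) le_rfl hA'
        ?_ ?_ ?_ ?_ ?_ ?_
      · rintro _ ⟨a, ha, rfl⟩
        rw [← map_pow, show a ^ q = 1 from Subtype.ext (hpow a ha), map_one]
      · refine ⟨⟨?_⟩⟩
        rintro ⟨_, a, ha, rfl⟩ ⟨_, b, hb, rfl⟩
        refine Subtype.ext (show f a * f b = f b * f a from ?_)
        rw [← map_mul, ← map_mul]
        exact congrArg f (Subtype.ext (congrArg Subtype.val
          (hcomm.is_comm.comm ⟨(a : Γ), ha⟩ ⟨(b : Γ), hb⟩) :))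
      · intro hcyc
        exact hnc ((MulEquiv.isCyclic ((subgroupOfEquivOfLe hAN).symm.trans e)).mpr hcyc)
      · refine le_trans (map_mono ?_) (le_normalizer_map f)
        intro a ha
        rw [mem_normalizer_iff]
        intro y
        exact mem_normalizer_iff.mp (hAG ha) (y : Γ)
      · rw [hA']
        exact (hA ▸ hcop).coprime_dvd_right ((card_map_dvd _ f).trans (dvd_of_eq hcG))
      · rintro _ ⟨a, ha, rfl⟩ ha1 x hx y hy
        have hz : zpowers a ≤ normalizer (G₁ : Set Γ₁) := zpowers_le.mpr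
          (mem_normalizer_iff.mpr fun y => mem_normalizer_iff.mp (hAG ha) (y : Γ))
        have hcz : ∀ z : Γ₁ ⧸ N.subgroupOf Γ₁,
            z ∈ centralizer ({f a} : Set (Γ₁ ⧸ N.subgroupOf Γ₁)) →
            z ∈ centralizer ((zpowers a).map f : Set (Γ₁ ⧸ N.subgroupOf Γ₁)) := by
          intro z hz'
          rw [MonoidHom.map_zpowers, mem_centralizer_iff]
          intro w hw
          obtain ⟨k, rfl⟩ := mem_zpowers_iff.mp hw
          exact ((Commute.symm (mem_centralizer_singleton_iff.mp hz')).zpow_left k).eq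
        have hcopa : (Nat.card (zpowers a)).Coprime (Nat.card (f.ker ⊓ G₁ : Subgroup Γ₁)) :=
          (hcop.coprime_dvd_left ((card_dvd_of_le (zpowers_le.mpr ha)).trans (dvd_of_eq
            (Nat.card_congr (subgroupOfEquivOfLe hAN).toEquiv)))).coprime_dvd_right
            ((card_dvd_of_le inf_le_right).trans (dvd_of_eq hcG))
        have hmap := map_inf_centralizer f hz hcopa (Or.inl inferInstance)
        have hx' : x ∈ (G₁ ⊓ centralizer (zpowers a : Set Γ₁)).map f := hmap ▸ ⟨hx.1, hcz x hx.2⟩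
        have hy' : y ∈ (G₁ ⊓ centralizer (zpowers a : Set Γ₁)).map f := hmap ▸ ⟨hy.1, hcz y hy.2⟩
        obtain ⟨x', hx'1, rfl⟩ := hx'
        obtain ⟨y', hy'1, rfl⟩ := hy'
        have ha1' : (a : Γ) ≠ 1 := fun e' => ha1 (by
          rw [show a = 1 from Subtype.ext e', map_one])
        have hmem : ∀ z : Γ₁, z ∈ G₁ ⊓ centralizer (zpowers a : Set Γ₁) →
            (z : Γ) ∈ G ⊓ centralizer {(a : Γ)} := fun z hz' =>
          ⟨hz'.1, mem_centralizer_singleton_iff.mpr (congrArg Subtype.val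
            (mem_centralizer_iff.mp hz'.2 a (mem_zpowers a))).symm⟩
        rw [← map_mul, ← map_mul]
        exact congrArg f (Subtype.ext (hab _ ha ha1' _ (hmem _ hx'1) _ (hmem _ hy'1)))
    refine hns ?_
    haveI := hq1
    exact Group.isSolvable_of_ker_le_range (inclusion hNG)
      ((f.subgroupMap G₁).comp (subgroupOfEquivOfLe hGN).symm.toMonoidHom) (by
        intro x hx
        rw [inclusion_range]
        have h0 : f ⟨(x : Γ), hGN x.2⟩ = 1 := congrArg Subtype.val hx
        have h1 : (⟨(x : Γ), hGN x.2⟩ : Γ₁) ∈ N.subgroupOf Γ₁ := (QuotientGroup.eq_one_iff _).mp h0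
        exact h1)
  have hfpf : G ⊓ centralizer (A : Set Γ) = ⊥ := by
    set Z := G ⊓ centralizer (A : Set Γ)
    have hZc : G ≤ centralizer (Z : Set Γ) := by
      refine le_of_noncyclic hnc hAG hcop fun a ha ha1 x hx => mem_centralizer_iff.mpr fun z hz => ?_
      exact hab a ha ha1 z ⟨hz.1, mem_centralizer_singleton_iff.mpr
        (mem_centralizer_iff.mp hz.2 a ha).symm⟩ x hx
    rcases hmin Z inf_le_left (hZc.trans (centralizer_le_normalizer (Z : Set Γ)))
      (normalizer_inf_le hAG (le_normalizer_centralizer_of_le le_normalizer)) with h | h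
    · exact h
    · exfalso
      refine hns (Group.isSolvable_of_comm fun x y => Subtype.ext ?_)
      exact mem_centralizer_iff.mp (hZc y.2) x (h.ge x.2)
  exact Cfg.false_of_cfg
    (⟨hq, hA, hpow, hcomm, hnc, hAG, hcop, hfpf, hab, hsub, hmin, hns⟩ : Cfg q A G)

/-- The theorem for a group of operators. -/
theorem isSolvable_of_abelian_fixedPoints {A G : Type*} [Group A] [Finite A] [Group G] [Finite G]
    (φ : A →* MulAut G) {q : ℕ} (hq : q.Prime) (hA : Nat.card A = q ^ 2) (hnc : ¬ IsCyclic A)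
    (hcop : ¬ q ∣ Nat.card G)
    (h : ∀ a : A, a ≠ 1 → ∀ x y : G, φ a x = x → φ a y = y → x * y = y * x) :
    Group.IsSolvable G := by
  haveI := Fact.mk hq
  haveI := finite_semidirect φ
  set A' := (SemidirectProduct.inr : A →* G ⋊[φ] A).range
  set G' := (SemidirectProduct.inl : G →* G ⋊[φ] A).range
  have eA : A ≃* A' := MonoidHom.ofInjective SemidirectProduct.inr_injective
  have eG : G ≃* G' := MonoidHom.ofInjective SemidirectProduct.inl_injective
  haveI hcm : IsMulCommutative A :=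
    ⟨⟨IsPGroup.commutative_of_card_eq_prime_sq hA⟩⟩
  have hpow : ∀ a : A, a ^ q = 1 := by
    intro a
    obtain ⟨k, hk, hke⟩ := (Nat.dvd_prime_pow hq).mp (hA ▸ orderOf_dvd_natCard a)
    rcases (show k = 2 ∨ k ≤ 1 by omega) with rfl | hk1
    · exact absurd (isCyclic_of_orderOf_eq_card a (hke.trans hA.symm)) hnc
    · exact orderOf_dvd_iff_pow_eq_one.mp (hke ▸ (by simpa using pow_dvd_pow q hk1))
  haveI : Group.IsSolvable G' := by
    refine isSolvable_of_abelian_fixed hq _ (G ⋊[φ] A) A' G' le_rfl ?_ ?_ ?_ ?_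
      (inr_range_le_normalizer φ) ?_ ?_
    · rw [← hA]; exact card_inr_range φ
    · rintro _ ⟨a, rfl⟩
      rw [← map_pow, hpow, map_one]
    · refine ⟨⟨?_⟩⟩
      rintro ⟨_, a, rfl⟩ ⟨_, b, rfl⟩
      refine Subtype.ext ?_
      show (SemidirectProduct.inr a : G ⋊[φ] A) * SemidirectProduct.inr b =
        SemidirectProduct.inr b * SemidirectProduct.inr a
      rw [← map_mul, ← map_mul, hcm.is_comm.comm]
    · intro hcyc
      exact hnc ((MulEquiv.isCyclic eA).mpr hcyc)
    · rw [← Nat.card_congr eG.toEquiv, card_inr_range φ, hA]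
      exact Nat.Coprime.pow_left 2 (hq.coprime_iff_not_dvd.mpr hcop)
    · rintro _ ⟨a, rfl⟩ ha1 x ⟨⟨g, rfl⟩, hgc⟩ y ⟨⟨g', rfl⟩, hgc'⟩
      have hfix : ∀ z : G, (SemidirectProduct.inl z : G ⋊[φ] A) ∈
          centralizer {SemidirectProduct.inr a} → φ a z = z := fun z hz => by
        have h1 := congrArg SemidirectProduct.left (mem_centralizer_singleton_iff.mp hz)
        simpa using h1.symm
      rw [← map_mul, ← map_mul, h a (fun e => ha1 (by rw [e, map_one])) g g' (hfix g hgc)
        (hfix g' hgc')]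
  exact Group.isSolvable_of_isSolvable_injective (f := eG.toMonoidHom) eG.injective

end Cfsg.Agent.Lib.AbFixed69
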